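import Cfsg.Agent.Lib.Fischer.Cent23.Whole
import Cfsg.Agent.Lib.Fischer.Fi22Type.Main
import Cfsg.Prelude.Def_CaseTheorems

/-!
# A group with a quasisimple double cover of a group of type M(22) as centralizer of an involution is Fi23
-/

set_option autoImplicit false
set_option linter.unusedSectionVars false

namespace Cfsg.Lib.Fischer.Cent23

open Cfsg Cfsg.Lib.CosetEnum Cfsg.Lib.CosetEnum.Fi22Two Cfsg.Lib.Fischer

variable {G : Type*} [Group G] [Finite G] {d : G} {Q : Type*} [Group Q] [Finite Q] {E : Set Q}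

/-- The hypotheses from a surjection with kernel generated by `d`. -/
theorem hyp_of (hd : orderOf d = 2) (hq : Cfsg.IsQuasisimple (Subgroup.centralizer ({d} : Set G)))
    (π : ↥(Subgroup.centralizer ({d} : Set G)) →* Q) (hπ : Function.Surjective π)
    (hker : π.ker = (Subgroup.zpowers d).subgroupOf (Subgroup.centralizer ({d} : Set G)))
    (hcls : Cfsg.IsThreeTranspositionClass E) (h22 : Cfsg.IsOfTypeM22 Q E)
    (hnwc : ∃ g : G, g * d * g⁻¹ ∈ Subgroup.centralizer ({d} : Set G) ∧ g * d * g⁻¹ ≠ d) :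
    ∃ z, Hyp d E π z := by
  obtain ⟨z, hz⟩ : ∃ z : ↥(Subgroup.centralizer ({d} : Set G)), (z : G) = d :=
    ⟨⟨d, Subgroup.mem_centralizer_singleton_iff.2 rfl⟩, rfl⟩
  have hd2 : d * d = 1 := by rw [← pow_two, ← hd, pow_orderOf_eq_one]
  have hd1 : d ≠ 1 := fun e => by rw [e, orderOf_one] at hd; omega
  have hkiff : ∀ c, π c = 1 ↔ c = 1 ∨ c = z := by
    intro c
    rw [← MonoidHom.mem_ker, hker, Subgroup.mem_subgroupOf]
    constructor
    · intro h
      obtain ⟨i, hi⟩ := Subgroup.mem_zpowers_iff.1 h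
      rw [← zpow_mod_orderOf, hd] at hi
      rcases Int.emod_two_eq i with h | h <;> rw [Nat.cast_ofNat, h] at hi
      · exact Or.inl (Subtype.ext (by simpa using hi.symm))
      · exact Or.inr (Subtype.ext (by rw [hz]; simpa using hi.symm))
    · rintro (rfl | rfl)
      · exact one_mem _
      · rw [hz]; exact Subgroup.mem_zpowers d
  have hdbl : IsDouble π z :=
    { surj := hπ
      ker_iff := hkiff
      central := fun c => Subtype.ext (by
        push_cast
        rw [hz]
        exact (Subgroup.mem_centralizer_singleton_iff.1 c.2).symm)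
      sq := Subtype.ext (by push_cast; rw [hz, hd2])
      ne := fun e => hd1 (by rw [← hz, e]; rfl) }
  have hcen : Subgroup.center ↥(Subgroup.centralizer ({d} : Set G)) = π.ker := by
    refine le_antisymm (fun c hc => ?_) fun c hc => ?_
    · have h1 : π c ∈ Subgroup.center Q := by
        rw [Subgroup.mem_center_iff]
        intro q
        obtain ⟨b, rfl⟩ := hπ q
        rw [← map_mul, Subgroup.mem_center_iff.1 hc b, map_mul]
      rw [h22.1, Subgroup.mem_bot] at h1
      exact h1
    · rcases (hkiff c).1 hc with rfl | rfl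
      · exact one_mem _
      · exact Subgroup.mem_center_iff.2 fun g => (hdbl.central g).eq.symm
  refine ⟨z, hdbl, hz, Group.isPerfect_def.1 hq.1, ?_, hcls, h22, hnwc⟩
  have := hq.2
  exact ((QuotientGroup.quotientMulEquivOfEq hcen).trans
    (QuotientGroup.quotientKerEquivOfSurjective π hπ)).symm.isSimpleGroup

/-- The isomorphism, with the class and the image of `d`. -/
theorem exists_iso {π : ↥(Subgroup.centralizer ({d} : Set G)) →* Q} {z : ↥(Subgroup.centralizer ({d} : Set G))}
    (H : Hyp d E π z) : ∃ e : Cfsg.Spor.Fi23 ≃* G, e delta23 = d := by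
  obtain ⟨M⟩ := exists_emb H
  obtain ⟨Fr⟩ := exists_frame H
  exact ⟨MulEquiv.ofBijective M.F ⟨M.inj, Emb.surjective H Fr M⟩, M.delta⟩

/-- The version for a quotient isomorphic to the presented Fi22. -/
theorem exists_iso_fi22 (hd : orderOf d = 2) (hq : Cfsg.IsQuasisimple (Subgroup.centralizer ({d} : Set G)))
    [((Subgroup.zpowers d).subgroupOf (Subgroup.centralizer ({d} : Set G))).Normal]
    (e : (↥(Subgroup.centralizer ({d} : Set G)) ⧸ (Subgroup.zpowers d).subgroupOf
      (Subgroup.centralizer ({d} : Set G))) ≃* Cfsg.Spor.Fi22)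
    (hnwc : ∃ g : G, g * d * g⁻¹ ∈ Subgroup.centralizer ({d} : Set G) ∧ g * d * g⁻¹ ≠ d) :
    ∃ i : Cfsg.Spor.Fi23 ≃* G, i delta23 = d := by
  have : Finite Cfsg.Spor.Fi22 := Nat.finite_of_card_ne_zero (by rw [Fi22Pres.isFi22.2]; decide)
  obtain ⟨D, -, hcls, -, h22⟩ := Fi22Type.fi22_type
  obtain ⟨z, H⟩ := hyp_of hd hq (e.toMonoidHom.comp (QuotientGroup.mk' _))
    (e.surjective.comp (QuotientGroup.mk'_surjective _)) (by
      rw [← MonoidHom.comap_ker, (MonoidHom.ker_eq_bot_iff _).2 e.injective, MonoidHom.comap_bot, QuotientGroup.ker_mk']) hcls h22 hnwc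
  exact exists_iso H

end Cfsg.Lib.Fischer.Cent23
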