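import Cfsg.Agent.Lib.CosetEnum.Fi22Two.Fusion
import Cfsg.Agent.Lib.Fischer.Relations.Involutions.Main

/-!
# The conjugates of an involution in its centralizer of type 2.M(22)

The twenty-three conjugates in the group of order two to the eleven show that the other conjugates in the
centralizer are one of the two classes of lifts of the class of transpositions.
-/

set_option autoImplicit false
set_option linter.unusedSectionVars false
set_option maxRecDepth 30000

namespace Cfsg.Lib.Fischer.Cent23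

open Cfsg Cfsg.Lib.CosetEnum Cfsg.Lib.CosetEnum.Fi22Two Cfsg.Lib.Fischer Cfsg.Lib.Fischer.Relations

/-- The hypotheses on the centralizer of `d` and its projection. -/
structure Hyp {G : Type*} [Group G] (d : G) {Q : Type*} [Group Q] (E : Set Q)
    (π : ↥(Subgroup.centralizer ({d} : Set G)) →* Q) (z : ↥(Subgroup.centralizer ({d} : Set G))) : Prop where
  hd : IsDouble π z
  z_val : (z : G) = d
  perfect : commutator ↥(Subgroup.centralizer ({d} : Set G)) = ⊤
  simple : IsSimpleGroup Q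
  cls : Cfsg.IsThreeTranspositionClass E
  type22 : Cfsg.IsOfTypeM22 Q E
  nwc : ∃ g : G, g * d * g⁻¹ ∈ Subgroup.centralizer ({d} : Set G) ∧ g * d * g⁻¹ ≠ d

namespace Hyp

variable {G : Type*} [Group G] {d : G} {Q : Type*} [Group Q] {E : Set Q}
  {π : ↥(Subgroup.centralizer ({d} : Set G)) →* Q} {z : ↥(Subgroup.centralizer ({d} : Set G))}
  (H : Hyp d E π z)
include H

theorem d_sq : d * d = 1 := H.z_val ▸ congrArg Subtype.val H.hd.sq

theorem d_ne : d ≠ 1 := fun h => H.hd.ne (Subtype.ext (H.z_val.trans h))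

theorem d_inv : d⁻¹ = d := inv_eq_of_mul_eq_one_right H.d_sq

theorem conj_sq {x : G} (h : IsConj d x) : x * x = 1 ∧ x ≠ 1 := by
  obtain ⟨g, rfl⟩ := isConj_iff.1 h
  refine ⟨?_, fun e => H.d_ne ?_⟩
  · rw [show g * d * g⁻¹ * (g * d * g⁻¹) = g * (d * d) * g⁻¹ by group, H.d_sq]; group
  · rwa [mul_inv_eq_one, mul_eq_left] at e

theorem trans : Trans E := trans_of_class H.cls

theorem prim [Finite Q] : Cfsg.IsPrimitiveUnderConj E := by
  haveI := H.simple
  obtain ⟨hZ', d₁, hd₁, c₁, hc₁, hnc, -⟩ := id H.type22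
  exact primitive_of_simple H.trans ⟨d₁, hd₁, c₁, hc₁, fun h => hnc (h ▸ Commute.refl d₁)⟩ hZ'

theorem fischer [Finite Q] : IsFischer E := by
  obtain ⟨F, _, _, hF, d₁, ⟨C⟩⟩ := m22_coord H.trans H.prim H.type22
  exact C.fis

theorem noRel [Finite Q] : NoRel E 5 := by
  obtain ⟨F, _, _, hF, d₁, ⟨C⟩⟩ := m22_coord H.trans H.prim H.type22
  exact C.noRel

end Hyp

/-- An element of a group of type M(22) of order two is conjugate into the group of the twenty-two. -/
theorem exists_conj_base {Q : Type*} [Group Q] [Finite Q] {E : Set Q} (hT : Trans E)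
    (hprim : Cfsg.IsPrimitiveUnderConj E) (h22 : Cfsg.IsOfTypeM22 Q E) (T : Fi22Norm.Fi22Tab Q E)
    {y : Q} (hy : orderOf y = 2) : ∃ g, g * y * g⁻¹ ∈ base T := by
  have : Fact (Nat.Prime 2) := ⟨Nat.prime_two⟩
  obtain ⟨hDc, hG, -⟩ := m22_order hT hprim h22
  obtain ⟨F, _, _, hF, d₁, ⟨C⟩⟩ := m22_coord hT hprim h22
  obtain ⟨u, hu⟩ := C.exists_conj_commute hG hDc hy
  have hy2 : y * y = 1 := by rw [← pow_two, ← hy, pow_orderOf_eq_one]
  have hu2 : u * y * u⁻¹ * (u * y * u⁻¹) = 1 := by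
    rw [show u * y * u⁻¹ * (u * y * u⁻¹) = u * (y * y) * u⁻¹ by group, hy2]
    group
  obtain ⟨m, -, l, -, -, hl, hc, hprod⟩ := C.involution_isProd hu hu2
  obtain ⟨A, hAdef⟩ : ∃ A, A = Subgroup.closure {a | a ∈ l} := ⟨_, rfl⟩
  haveI : IsMulCommutative A := hAdef ▸ Subgroup.isMulCommutative_closure fun a ha b hb => hc a ha b hb
  have hP : IsPGroup 2 A := by
    have : ∀ g ∈ A, g * g = 1 := by
      intro g hg
      rw [hAdef] at hg
      induction hg using Subgroup.closure_induction with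
      | mem x hx => exact mul_self hT (hl x hx)
      | one => exact one_mul 1
      | mul a b ha hb iha ihb =>
        have hab : Commute a b := congrArg Subtype.val
          (mul_comm' (⟨a, hAdef ▸ ha⟩ : A) ⟨b, hAdef ▸ hb⟩)
        rw [hab.symm.mul_mul_mul_comm, iha, ihb, one_mul]
      | inv a ha iha => rw [← mul_inv_rev, iha, inv_one]
    exact fun g => ⟨1, Subtype.ext (by rw [pow_one, pow_two]; exact this g g.2)⟩
  obtain ⟨P, hPle⟩ := hP.exists_le_sylow
  obtain ⟨T', hT'⟩ := exists_tab_sylow T P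
  let P₀ : Sylow 2 Q := Sylow.ofCard (twoGroup T)
    (by rw [card_twoGroup, ← card_twoGroup T', hT', Sylow.card_eq_multiplicity])
  obtain ⟨h, hh⟩ := MulAction.exists_smul_eq Q P P₀
  have hmem : ∀ a ∈ l, h * a * h⁻¹ ∈ base T := by
    intro a ha
    have h1 : h * a * h⁻¹ ∈ twoGroup T := by
      show h * a * h⁻¹ ∈ (P₀ : Subgroup Q)
      rw [← hh, Sylow.coe_subgroup_smul]
      exact ⟨a, hPle (hAdef ▸ Subgroup.subset_closure ha), by simp [MulAut.conj_apply]⟩
    obtain ⟨i, hi, e⟩ := mem_class_twoGroup T hT.set (hT.conj h a (hl a ha)) h1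
    rw [← e, delta_P T hi]
    exact gen_mem T hi
  refine ⟨h * u, ?_⟩
  have hsub : l.prod ∈ (base T).comap (MulAut.conj h).toMonoidHom :=
    list_prod_mem fun a ha => by simpa [Subgroup.mem_comap] using hmem a ha
  rw [hprod, Subgroup.mem_comap] at hsub
  simpa [mul_assoc] using hsub

variable {G : Type*} [Group G] [Finite G] {d : G} {Q : Type*} [Group Q] [Finite Q] {E : Set Q}

/-- A sign as a central element. -/
def signZ {C : Type*} [One C] (z : C) (f : ℕ) : C := if f = 0 then 1 else z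

/-- Tables, lifts with the standard coordinates and the lifts that are conjugates of `d`. -/
structure Frame (E : Set Q) (π : ↥(Subgroup.centralizer ({d} : Set G)) →* Q)
    (z : ↥(Subgroup.centralizer ({d} : Set G))) where
  T : Fi22Norm.Fi22Tab Q E
  L₀ : T.A.Lifts π
  coord_ok : IsCoord z T L₀ coord
  f : ℕ
  sign : IsSign f
  L : T.A.Lifts π
  L_eq : ∀ p, L.Y p = L₀.Y p * signZ z f
  mem_iff : ∀ c : ↥(Subgroup.centralizer ({d} : Set G)), IsConj d (c : G) ↔ c = z ∨ ∃ p, L.Y p = c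
  invol : ∀ c : ↥(Subgroup.centralizer ({d} : Set G)), c * c = 1 →
    ∃ g, ∃ v < 2048, g * c * g⁻¹ = ev11 z T L₀ v

variable {π : ↥(Subgroup.centralizer ({d} : Set G)) →* Q} {z : ↥(Subgroup.centralizer ({d} : Set G))}

theorem exists_frame (H : Hyp d E π z) : Nonempty (Frame E π z) := by
  classical
  have : Fact (Nat.Prime 2) := ⟨Nat.prime_two⟩
  haveI := H.simple
  have hd := H.hd
  obtain ⟨T⟩ := Fi22Norm.exists_tab ⟨H.cls.1, H.trans.conj, H.trans.gen⟩ H.prim H.type22
  obtain ⟨L₁⟩ := exists_lifts_cover H.cls H.type22 hd T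
  obtain ⟨L₀, hL₀⟩ := exists_coord_std T hd H.perfect L₁
  have hinv : ∀ c : ↥(Subgroup.centralizer ({d} : Set G)), c * c = 1 →
      ∃ g, ∃ v < 2048, g * c * g⁻¹ = ev11 z T L₀ v := by
    intro c hc
    by_cases h1 : π c = 1
    · rcases (hd.ker_iff c).1 h1 with rfl | rfl
      · exact ⟨1, 0, by norm_num, by simp [ev11_zero T L₀ hd]⟩
      · exact ⟨1, 1024, by norm_num, by simp [ev11_top T L₀ hd]⟩
    obtain ⟨u, hu⟩ := exists_conj_base H.trans H.prim H.type22 T
      (orderOf_eq_prime (by rw [pow_two, ← map_mul, hc, map_one]) h1 : orderOf (π c) = 2)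
    obtain ⟨g, rfl⟩ := hd.surj u
    obtain ⟨v, hv, e⟩ := (mem_coverBase T L₀ hd).1
      (show g * c * g⁻¹ ∈ (base T).comap π by rw [Subgroup.mem_comap, map_mul, map_mul, map_inv]; exact hu)
    exact ⟨g, v, hv, e.symm⟩
  let U : Setup d Q E := ⟨π, z, hd, H.z_val, T, L₀, hL₀, fun B hB hcard => by
    have hP : IsPGroup 2 B := fun g => ⟨1, by
      refine Subtype.ext ?_
      show (g : ↥(Subgroup.centralizer ({d} : Set G))) ^ (2 ^ 1) = 1
      exact hB.2 g.1 g.2⟩
    obtain ⟨S', hS'⟩ := hP.exists_le_sylow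
    obtain ⟨T', hT'⟩ := exists_tab_cover hd T S'
    have hcardT : Nat.card ((twoGroup T).comap π) = Nat.card S' := by
      rw [← hT', hd.card_comap, hd.card_comap, card_twoGroup, card_twoGroup]
    let S₀ : Sylow 2 ↥(Subgroup.centralizer ({d} : Set G)) :=
      Sylow.ofCard ((twoGroup T).comap π) (by rw [hcardT, Sylow.card_eq_multiplicity])
    obtain ⟨c, hc'⟩ := MulAction.exists_smul_eq ↥(Subgroup.centralizer ({d} : Set G)) S' S₀
    have hle : B.map (MulAut.conj c).toMonoidHom ≤ (twoGroup T).comap π := by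
      show _ ≤ (S₀ : Subgroup ↥(Subgroup.centralizer ({d} : Set G)))
      rw [← hc', Sylow.coe_subgroup_smul]
      exact Subgroup.map_mono hS'
    have h := (thompson_cover T hd L₀).2 _ hle (Cfsg.Lib.Thompson.isEA_map _ hB) (by
      rwa [Subgroup.card_map_of_injective (f := (MulAut.conj c).toMonoidHom) (MulAut.conj c).injective])
    refine ⟨c⁻¹, ?_⟩
    rw [← h, Subgroup.map_map]
    convert Subgroup.map_id B
    ext x
    simp [mul_assoc]⟩
  have he : ∀ v, U.e v = (ev11 z T L₀ v : ↥(Subgroup.centralizer ({d} : Set G))) := fun _ => rfl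
  have hne : ∃ x ∈ U.X, x ≠ d := by
    obtain ⟨g, hg, hgd⟩ := H.nwc
    obtain ⟨k, v, hv, e⟩ := hinv ⟨_, hg⟩ (Subtype.ext (H.conj_sq (isConj_iff.2 ⟨g, rfl⟩)).1)
    refine ⟨U.e v, ⟨U.e_mem hv, ?_⟩, fun h => hgd ?_⟩
    · rw [he, ← e]
      exact (isConj_iff.2 ⟨g, rfl⟩).trans (isConj_iff.2 ⟨(k : G), rfl⟩)
    · rw [he, ← e] at h
      have hk := Subgroup.mem_centralizer_singleton_iff.1 k.2
      calc g * d * g⁻¹ = (k : G)⁻¹ * ((k : G) * (g * d * g⁻¹) * (k : G)⁻¹) * k := by group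
        _ = (k : G)⁻¹ * d * k := by rw [show (k : G) * (g * d * g⁻¹) * (k : G)⁻¹ = d from h]
        _ = d := by rw [mul_assoc, ← hk]; group
  obtain ⟨f, hf, hfX⟩ : ∃ f, IsSign f ∧ ∀ j < 22, U.e (coord.getD j 0 ^^^ f) ∈ U.X := by
    rcases U.exists_single hne with h | h
    · exact ⟨0, Or.inl rfl, fun j hj => h.all U pos_mem.1 (mem_pos.2 ⟨j, hj, Nat.xor_zero _⟩)⟩
    · exact ⟨1024, Or.inr rfl, fun j hj => h.all U pos_mem.2.1 (mem_neg.2 ⟨j, hj, rfl⟩)⟩
  obtain ⟨S, hS⟩ : ∃ S : Finset ℕ, S = (Finset.range 22).image fun j => coord.getD j 0 ^^^ f := ⟨_, rfl⟩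
  have hSmem : ∀ v ∈ S, v < 2048 ∧ v ≠ 1024 ∧ U.e v ∈ U.X := fun v hv => by
    rw [hS, Finset.mem_image] at hv
    obtain ⟨j, hj, rfl⟩ := hv
    rw [Finset.mem_range] at hj
    refine ⟨sign_lt hf (U.coord_lt hj), fun h => vec_ne_zero hj ?_, hfX j hj⟩
    rw [← single_low hj hf, h]
  have hScard : S.card = 22 := by
    rw [hS, Finset.card_image_of_injOn, Finset.card_range]
    intro i hi j hj h
    simp only [Finset.coe_range, Set.mem_Iio] at hi hj
    refine vec_inj hi hj ?_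
    rw [← single_low hi hf, ← single_low hj hf]
    exact congrArg (fun t => t % 1024) h
  have hX : U.X = U.e '' ((insert 1024 S : Finset ℕ) : Set ℕ) := by
    refine (Set.eq_of_subset_of_ncard_le ?_ ?_ (Set.toFinite _)).symm
    · rintro _ ⟨v, hv, rfl⟩
      simp only [Finset.coe_insert, Set.mem_insert_iff, Finset.mem_coe] at hv
      rcases hv with rfl | hv
      · rw [U.e_top]; exact U.d_mem_X
      · exact (hSmem v hv).2.2
    · rw [U.ncard_eq hne, Set.InjOn.ncard_image, Set.ncard_coe_finset,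
        Finset.card_insert_of_notMem (fun h => (hSmem _ h).2.1 rfl), hScard]
      intro u hu v hv huv
      have hlt : ∀ w ∈ insert 1024 S, w < 2048 := fun w hw => by
        rcases Finset.mem_insert.1 hw with rfl | hw
        exacts [by norm_num, (hSmem w hw).1]
      exact U.e_inj (hlt u hu) (hlt v hv) huv
  obtain ⟨L, hL⟩ : ∃ L : T.A.Lifts π, ∀ p, L.Y p = L₀.Y p * signZ z f := by
    rcases hf with rfl | rfl
    · exact ⟨L₀, fun p => by simp [signZ]⟩
    · exact ⟨flipLifts T L₀ hd, fun p => rfl⟩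
  have hgenval : ∀ j (hj : j < 22), ev11 z T L₀ (coord.getD j 0 ^^^ f) = L.Y (P j hj) := fun j hj => by
    rw [hL, ev11_xor T L₀ hd, ← (hL₀.2 j hj).2, genL_eq T L₀ hj]
    rcases hf with rfl | rfl
    · simp [signZ, ev11_zero T L₀ hd]
    · simp [signZ, ev11_top T L₀ hd]
  refine ⟨⟨T, L₀, hL₀, f, hf, L, hL, fun c => ⟨fun hc => ?_, ?_⟩, hinv⟩⟩
  · obtain ⟨k, v, hv, e⟩ := hinv c (Subtype.ext (H.conj_sq hc).1)
    have hvX : U.e v ∈ U.X := ⟨U.e_mem hv, by rw [he, ← e]; exact hc.trans (isConj_iff.2 ⟨(k : G), rfl⟩)⟩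
    rw [hX] at hvX
    obtain ⟨w, hw, hwe⟩ := hvX
    simp only [Finset.coe_insert, Set.mem_insert_iff, Finset.mem_coe] at hw
    rw [he, he] at hwe
    rw [← Subtype.ext hwe] at e
    have hc' : c = k⁻¹ * ev11 z T L₀ w * k := by rw [← e]; group
    rcases hw with rfl | hw
    · left
      rw [hc', ev11_top T L₀ hd, mul_assoc, (hd.central k).eq, inv_mul_cancel_left]
    · right
      rw [hS, Finset.mem_image] at hw
      obtain ⟨j, hj, rfl⟩ := hw
      rw [Finset.mem_range] at hj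
      refine ⟨T.A.f (π k⁻¹) (P j hj), ?_⟩
      rw [← equivariant T L hd, hc', hgenval j hj, inv_inv]
  · rintro (rfl | ⟨p, rfl⟩)
    · rw [H.z_val]
    · have h0 : (0 : ℕ) < 22 := by norm_num
      obtain ⟨g, hg⟩ := T.A.trans p
      obtain ⟨g₀, hg₀⟩ := T.A.trans (P 0 h0)
      obtain ⟨k, hk⟩ := hd.surj (g * g₀⁻¹)
      have e : L.Y p = k * L.Y (P 0 h0) * k⁻¹ := by
        rw [equivariant T L hd, hk, map_mul, map_inv, Equiv.Perm.mul_apply, ← hg₀, Equiv.Perm.inv_def, Equiv.symm_apply_apply, hg]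
      have h1 : IsConj d (L.Y (P 0 h0) : G) := by
        rw [← hgenval 0 h0]
        exact (hfX 0 h0).2
      rw [e]
      exact h1.trans (isConj_iff.2 ⟨(k : G), rfl⟩)

end Cfsg.Lib.Fischer.Cent23
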