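import Cfsg.Agent.Lib.Fischer.Cent23.ScanChecks
import Cfsg.Agent.Lib.Fischer.TypeM23.Config
import Cfsg.Agent.Lib.CosetEnum.Fi22Norm.Table

/-!
# Two facts on configurations of transpositions in a group of type M(22)
-/

set_option autoImplicit false
set_option linter.unusedSectionVars false
set_option maxRecDepth 100000

namespace Cfsg.Lib.Fischer.Cent23

open Cfsg.Lib.CosetEnum Cfsg.Lib.CosetEnum.Fi22Out Cfsg.Lib.Fischer.M23
open Cfsg.Lib.CosetEnum.Fi22Norm (Fi22Tab)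

variable {Q : Type*} [Group Q] [Finite Q] {E : Set Q} (T : Fi22Tab Q E)

/-- The transpositions of two points commute. -/
def Cm (p q : Fin 3510) : Prop := Commute (T.A.delta p) (T.A.delta q)

theorem Cm.symm {p q : Fin 3510} (h : Cm T p q) : Cm T q p := Commute.symm h

theorem cm_move (a : Q) {p q : Fin 3510} : Cm T (T.A.f a p) (T.A.f a q) ↔ Cm T p q := by
  rw [Cm, T.A.delta_apply, T.A.delta_apply, Commute.conj_iff]
  exact Iff.rfl

theorem mem_table {p : ℕ} (hp : inTable p = true) :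
    (∀ g ∈ moveWord p, g < T.A.k) ∧ twalk T.A.Z T.A.k (moveWord p) (T.A.pts.getD 0 0) = p := by
  simp only [inTable, List.any_eq_true, Nat.beq_eq] at hp
  obtain ⟨e, he, rfl⟩ := hp
  have h := table_ok
  simp only [tableOK, List.all_eq_true, Bool.and_eq_true, Nat.blt_eq, Nat.beq_eq] at h
  rw [T.hZ, T.hk, T.hp]
  exact h e he

theorem delta_tword {p : ℕ} (hp : inTable p = true) (h : p < 3510) :
    T.A.delta ⟨p, h⟩ = wordVal T.A.x (tword p) ∧ ∀ g ∈ tword p, g < T.A.k := by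
  obtain ⟨h1, h2⟩ := mem_table T hp
  have hk0 : 0 < T.A.k := by rw [T.hk]; norm_num
  refine ⟨?_, T.A.conjWord_lt hk0 h1⟩
  rw [tword, ← T.A.delta_conjWord hk0 h1]
  exact congrArg T.A.delta (Fin.ext h2.symm)

theorem cm_iff {p q : Fin 3510} (hp : inTable p.1 = true) :
    Cm T p q ↔ twalk Fi22U62.tabP 9 (tword p.1) q.1 = q.1 := by
  obtain ⟨h1, h2⟩ := delta_tword T hp p.2
  rw [Cm, commute_iff_eq, T.A.commute_delta_iff, h1, Fin.ext_iff, T.A.walk_apply h2, T.hZ, T.hk]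

theorem fixP_iff {p q : Fin 3510} (hp : inTable p.1 = true) : fixP p.1 q.1 = true ↔ Cm T p q := by
  rw [fixP, Nat.beq_eq, cm_iff T hp]

theorem fixP_false {p q : Fin 3510} (hp : inTable p.1 = true) (h : ¬ Cm T p q) : fixP p.1 q.1 = false := by
  rw [← Bool.not_eq_true, fixP_iff T hp]; exact h

theorem gen_adj {r s : ℕ} (hr : r < 9) (hs : s < 9) :
    (T.A.x r * T.A.x s = T.A.x s * T.A.x r ↔ adjB r s = false) ∧
      (r ≠ s → T.A.pts.getD r 0 ≠ T.A.pts.getD s 0) := by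
  have h := pattern_ok
  simp only [List.all_eq_true, List.mem_range, Bool.and_eq_true, beq_iff_eq, Bool.or_eq_true] at h
  obtain ⟨h1, h2⟩ := h r hr s hs
  have hr' : r < T.A.k := by rw [T.hk]; exact hr
  have hs' : s < T.A.k := by rw [T.hk]; exact hs
  constructor
  · have key := T.A.commute_gen_iff hr' ⟨T.A.pts.getD s 0, T.A.pts_lt hs'⟩
    rw [T.A.delta_pts hs'] at key
    simp only [twalk_cons, twalk_nil, T.hZ, T.hk, T.hp] at key
    rw [key, ← Nat.beq_eq, h1]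
    simp
  · intro hne e
    rw [T.hp] at e
    rcases h2 with h2 | h2
    · exact hne (Nat.eq_of_beq_eq_true h2)
    · rw [e, Nat.beq_refl] at h2
      exact Bool.noConfusion h2

/-- The roles of the five. -/
def five : List ℕ := [0, 1, 2, 3, 7]

/-- Five points with the pattern of a path can be moved to one of three standard fives. -/
theorem exists_standard (τ : ℕ → Fin 3510)
    (hτ : ∀ r ∈ five, ∀ s ∈ five, (Cm T (τ r) (τ s) ↔ adjB r s = false) ∧ (r ≠ s → τ r ≠ τ s)) :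
    ∃ a : Q, ∃ i < 3, (T.A.f a (τ 0)).1 = 0 ∧ (T.A.f a (τ 1)).1 = 2 ∧ (T.A.f a (τ 2)).1 = 6 ∧
      (T.A.f a (τ 3)).1 = 16 ∧ (T.A.f a (τ 7)).1 = fifth i := by
  have h5 : ∀ r ∈ five, r < 9 := by decide
  have hP : T.A.Patterned five τ :=
    ⟨fun r hr s hs => (hτ r hr s hs).1.trans (gen_adj T (h5 r hr) (h5 s hs)).1.symm,
      fun r hr s hs hne => (hτ r hr s hs).2 fun e => hne (by rw [e])⟩
  have step : ∀ {prev : List (ℕ × ℕ)} {r : ℕ} {reps : List Rep},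
      repsOK Fi22U62.tabP 9 pts prev r reps = true → r ∈ five → (∀ hg ∈ prev, hg.1 ∈ five) →
      scanOK Fi22U62.tabP 9 (roleConds Fi22U62.tabP 9 pts prev r) (roleMem pts prev reps) 3510 0 = true →
      (∀ R ∈ reps, orbitOK Fi22U62.tabP R.O R.Pos 9 3510 R.c R.U R.c 0 = true) →
      T.A.State τ prev → ∃ R ∈ reps, T.A.State τ (prev ++ [(r, R.g)]) :=
    fun h1 hr hh h2 h3 h => T.A.state_step_patterned hP (by rw [T.hZ, T.hk, T.hp]; exact h1) hr hh
      (by rw [T.hZ, T.hk, T.hp]; exact h2) (by rw [T.hZ, T.hk]; exact h3) h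
  have s0 : T.A.State τ [(0, 0)] := T.A.state_first τ (by rw [T.hk]; norm_num)
  obtain ⟨R, hR, s1⟩ := step repsN1_ok (by decide) (by decide) scanN1_ok (by simpa [repsN1] using orbN1_1_ok) s0
  obtain rfl : R = repN1_1 := by simpa [repsN1] using hR
  obtain ⟨R, hR, s2⟩ := step repsN2_ok (by decide) (by decide +kernel) scanN2_ok
    (by simpa [repsN2] using orbN2_2_ok) s1
  obtain rfl : R = repN2_2 := by simpa [repsN2] using hR
  obtain ⟨R, hR, s3⟩ := step repsN3_ok (by decide) (by decide +kernel) scanN3_ok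
    (by simpa [repsN3] using orbN3_3_ok) s2
  obtain rfl : R = repN3_3 := by simpa [repsN3] using hR
  obtain ⟨R, hR, a, ha⟩ := step repsN4_ok (by decide) (by decide +kernel) scanN4_ok
    (by simpa [repsN4] using ⟨orbN4_7_ok, orbN4_4_ok, orbN4_9_ok⟩) s3
  obtain ⟨i, hi, hfifth⟩ : ∃ i < 3, pts.getD R.g 0 = fifth i := by
    obtain rfl | rfl | rfl : R = repN4_7 ∨ R = repN4_4 ∨ R = repN4_9 := by simpa [repsN4] using hR
    · exact ⟨0, by norm_num, by decide +kernel⟩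
    · exact ⟨1, by norm_num, by decide +kernel⟩
    · exact ⟨2, by norm_num, by decide +kernel⟩
  refine ⟨a, i, hi, ?_, ?_, ?_, ?_, ?_⟩
  · rw [ha (0, 0) (by simp [prevN4, repN1_1, repN2_2, repN3_3]), T.hp]; rfl
  · rw [ha (1, 1) (by simp [prevN4, repN1_1, repN2_2, repN3_3]), T.hp]; rfl
  · rw [ha (2, 2) (by simp [prevN4, repN1_1, repN2_2, repN3_3]), T.hp]; rfl
  · rw [ha (3, 3) (by simp [prevN4, repN1_1, repN2_2, repN3_3]), T.hp]; rfl
  · rw [ha (7, R.g) (by simp [prevN4, repN1_1, repN2_2, repN3_3]), T.hp, hfifth]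

/-- A standard five. -/
structure Five (i : ℕ) (c d e f g : Fin 3510) : Prop where
  hi : i < 3
  vc : c.1 = 0
  vd : d.1 = 2
  ve : e.1 = 6
  vf : f.1 = 16
  vg : g.1 = fifth i

theorem five_words {i : ℕ} {c d e f g : Fin 3510} (F : Five i c d e f g) (q : Fin 3510) :
    (Cm T c q ↔ twalk Fi22U62.tabP 9 (tword 0) q.1 = q.1) ∧ (Cm T d q ↔ twalk Fi22U62.tabP 9 (tword 2) q.1 = q.1) ∧
    (Cm T e q ↔ twalk Fi22U62.tabP 9 (tword 6) q.1 = q.1) ∧ (Cm T f q ↔ twalk Fi22U62.tabP 9 (tword 16) q.1 = q.1) ∧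
    (Cm T g q ↔ twalk Fi22U62.tabP 9 (tword (fifth i)) q.1 = q.1) := by
  obtain ⟨hall, hfour⟩ := listed_ok
  simp only [List.all_eq_true, List.mem_range, Bool.and_eq_true] at hall hfour
  refine ⟨?_, ?_, ?_, ?_, ?_⟩
  · rw [cm_iff T (F.vc ▸ hfour 0 (by simp)), F.vc]
  · rw [cm_iff T (F.vd ▸ hfour 2 (by simp)), F.vd]
  · rw [cm_iff T (F.ve ▸ hfour 6 (by simp)), F.ve]
  · rw [cm_iff T (F.vf ▸ hfour 16 (by simp)), F.vf]
  · rw [cm_iff T (F.vg ▸ (hall i F.hi).1), F.vg]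

theorem mem_list {i : ℕ} (hi : i < 3) {j : ℕ} (hj : j < 4) (q : Fin 3510)
    (hconds : ∀ c ∈ condOf i j, (twalk Fi22U62.tabP 9 c.1 q.1 = q.1 ↔ c.2 = true)) :
    q.1 ∈ listOf i j ∧ inTable q.1 = true := by
  obtain ⟨hall, -⟩ := listed_ok
  simp only [List.all_eq_true, List.mem_range, Bool.and_eq_true] at hall
  have hscan : scanOK Fi22U62.tabP 9 (condOf i j) (elemN (listOf i j)) 3510 0 = true := by
    interval_cases i <;> interval_cases j
    exacts [scan00_ok, scan01_ok, scan02_ok, scan03_ok, scan10_ok, scan11_ok, scan12_ok, scan13_ok,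
      scan20_ok, scan21_ok, scan22_ok, scan23_ok]
  have hm := elemN_iff.1 (scanOK_get hscan q.1 (Nat.zero_le _) (by omega) (condsB_iff.2 hconds))
  exact ⟨hm, (hall i hi).2 j hj q.1 hm⟩

theorem mem_perp {i : ℕ} {c d e f g : Fin 3510} (F : Five i c d e f g) {q : Fin 3510}
    (hc : Cm T c q) (hd : Cm T d q) (he : Cm T e q) (hf : Cm T f q) (hg : Cm T g q) :
    q.1 ∈ listOf i 0 ∧ inTable q.1 = true := by
  obtain ⟨w0, w1, w2, w3, w4⟩ := five_words T F q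
  exact mem_list F.hi (by norm_num) q
    (by simp [condOf, w0.1 hc, w1.1 hd, w2.1 he, w3.1 hf, w4.1 hg])

theorem mem_out {i : ℕ} {c d e f g : Fin 3510} (F : Five i c d e f g) {q : Fin 3510}
    (hc : Cm T c q) (hd : Cm T d q) (he : Cm T e q) (hf : Cm T f q) (hg : ¬ Cm T g q) :
    q.1 ∈ listOf i 1 ∧ inTable q.1 = true := by
  obtain ⟨w0, w1, w2, w3, w4⟩ := five_words T F q
  exact mem_list F.hi (by norm_num) q
    (by simp [condOf, w0.1 hc, w1.1 hd, w2.1 he, w3.1 hf, mt w4.2 hg])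

theorem mem_head {i : ℕ} {c d e f g : Fin 3510} (F : Five i c d e f g) {q : Fin 3510}
    (hc : ¬ Cm T c q) (hd : Cm T d q) (he : Cm T e q) (hf : Cm T f q) (hg : Cm T g q) :
    q.1 ∈ listOf i 2 ∧ inTable q.1 = true := by
  obtain ⟨w0, w1, w2, w3, w4⟩ := five_words T F q
  exact mem_list F.hi (by norm_num) q
    (by simp [condOf, mt w0.2 hc, w1.1 hd, w2.1 he, w3.1 hf, w4.1 hg])

theorem mem_mid {i : ℕ} {c d e f g : Fin 3510} (F : Five i c d e f g) {q : Fin 3510}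
    (hc : Cm T c q) (hd : ¬ Cm T d q) (he : Cm T e q) (hf : Cm T f q) (hg : Cm T g q) :
    q.1 ∈ listOf i 3 ∧ inTable q.1 = true := by
  obtain ⟨w0, w1, w2, w3, w4⟩ := five_words T F q
  exact mem_list F.hi (by norm_num) q
    (by simp [condOf, w0.1 hc, mt w1.2 hd, w2.1 he, w3.1 hf, w4.1 hg])

/-- Five members forming a path are at a standard five after a move. -/
theorem exists_five_move {c d e f g : Fin 3510}
    (hpath : ¬ Cm T c d ∧ ¬ Cm T d e ∧ ¬ Cm T e f ∧ ¬ Cm T f g ∧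
      Cm T c e ∧ Cm T c f ∧ Cm T c g ∧ Cm T d f ∧ Cm T d g ∧ Cm T e g)
    (hne : c ≠ e ∧ c ≠ f ∧ c ≠ g ∧ d ≠ f ∧ d ≠ g ∧ e ≠ g) :
    ∃ u : Q, ∃ i, Five i (T.A.f u c) (T.A.f u d) (T.A.f u e) (T.A.f u f) (T.A.f u g) := by
  obtain ⟨cd, de, ef, fg, ce, cf, cg, df, dg, eg⟩ := hpath
  obtain ⟨nce, ncf, ncg, ndf, ndg, neg⟩ := hne
  have self : ∀ p, Cm T p p := fun p => Commute.refl _
  have ncd : c ≠ d := fun h => cd (h ▸ self c)
  have nde : d ≠ e := fun h => de (h ▸ self d)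
  have nef : e ≠ f := fun h => ef (h ▸ self e)
  have nfg : f ≠ g := fun h => fg (h ▸ self f)
  obtain ⟨τ, hτdef⟩ : ∃ τ : ℕ → Fin 3510, τ = fun r => [c, d, e, f, g, g, g, g].getD r g := ⟨_, rfl⟩
  have v : τ 0 = c ∧ τ 1 = d ∧ τ 2 = e ∧ τ 3 = f ∧ τ 7 = g := by subst hτdef; exact ⟨rfl, rfl, rfl, rfl, rfl⟩
  have sym : ∀ {p q : Fin 3510}, Cm T p q → Cm T q p := fun h => Cm.symm T h
  have nsym : ∀ {p q : Fin 3510}, ¬ Cm T p q → ¬ Cm T q p := fun h h' => h (Cm.symm T h')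
  have fa : ∀ {p : Prop} {b : Bool}, p → b = false → (p ↔ b = false) := fun h hb => iff_of_true h hb
  have fb : ∀ {p : Prop} {b : Bool}, ¬ p → b ≠ false → (p ↔ b = false) := fun h hb => iff_of_false h hb
  have hτ : ∀ r ∈ five, ∀ s ∈ five, (Cm T (τ r) (τ s) ↔ adjB r s = false) ∧ (r ≠ s → τ r ≠ τ s) := by
    intro r hr s hs
    simp only [five, List.mem_cons, List.not_mem_nil, or_false] at hr hs
    obtain ⟨v0, v1, v2, v3, v7⟩ := v
    rcases hr with rfl | rfl | rfl | rfl | rfl <;> rcases hs with rfl | rfl | rfl | rfl | rfl <;>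
      simp only [v0, v1, v2, v3, v7]
    exacts [⟨fa (self c) (by decide), fun h => absurd rfl h⟩, ⟨fb cd (by decide), fun _ => ncd⟩,
      ⟨fa ce (by decide), fun _ => nce⟩, ⟨fa cf (by decide), fun _ => ncf⟩, ⟨fa cg (by decide), fun _ => ncg⟩,
      ⟨fb (nsym cd) (by decide), fun _ => ncd.symm⟩, ⟨fa (self d) (by decide), fun h => absurd rfl h⟩,
      ⟨fb de (by decide), fun _ => nde⟩, ⟨fa df (by decide), fun _ => ndf⟩, ⟨fa dg (by decide), fun _ => ndg⟩,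
      ⟨fa (sym ce) (by decide), fun _ => nce.symm⟩, ⟨fb (nsym de) (by decide), fun _ => nde.symm⟩,
      ⟨fa (self e) (by decide), fun h => absurd rfl h⟩, ⟨fb ef (by decide), fun _ => nef⟩,
      ⟨fa eg (by decide), fun _ => neg⟩,
      ⟨fa (sym cf) (by decide), fun _ => ncf.symm⟩, ⟨fa (sym df) (by decide), fun _ => ndf.symm⟩,
      ⟨fb (nsym ef) (by decide), fun _ => nef.symm⟩, ⟨fa (self f) (by decide), fun h => absurd rfl h⟩,
      ⟨fb fg (by decide), fun _ => nfg⟩,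
      ⟨fa (sym cg) (by decide), fun _ => ncg.symm⟩, ⟨fa (sym dg) (by decide), fun _ => ndg.symm⟩,
      ⟨fa (sym eg) (by decide), fun _ => neg.symm⟩, ⟨fb (nsym fg) (by decide), fun _ => nfg.symm⟩,
      ⟨fa (self g) (by decide), fun h => absurd rfl h⟩]
  obtain ⟨u, i, hi, e0, e1, e2, e3, e7⟩ := exists_standard T τ hτ
  obtain ⟨v0, v1, v2, v3, v7⟩ := v
  rw [v0] at e0; rw [v1] at e1; rw [v2] at e2; rw [v3] at e3; rw [v7] at e7
  exact ⟨u, i, hi, e0, e1, e2, e3, e7⟩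

/-- A member away from the end of a chain of seven and from an isolated member commutes with the second
member once it commutes with the other five. -/
theorem chain_fact {a b c d e f g t w : Fin 3510}
    (hpath : ¬ Cm T c d ∧ ¬ Cm T d e ∧ ¬ Cm T e f ∧ ¬ Cm T f g ∧
      Cm T c e ∧ Cm T c f ∧ Cm T c g ∧ Cm T d f ∧ Cm T d g ∧ Cm T e g)
    (hne : c ≠ e ∧ c ≠ f ∧ c ≠ g ∧ d ≠ f ∧ d ≠ g ∧ e ≠ g)
    (ha : Cm T c a ∧ Cm T d a ∧ Cm T e a ∧ Cm T f a ∧ Cm T g a)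
    (hb : ¬ Cm T c b ∧ Cm T d b ∧ Cm T e b ∧ Cm T f b ∧ Cm T g b ∧ ¬ Cm T b a)
    (ht : Cm T c t ∧ Cm T d t ∧ Cm T e t ∧ Cm T f t ∧ Cm T g t ∧ Cm T a t ∧ Cm T b t)
    (hw : Cm T c w ∧ Cm T d w ∧ Cm T e w ∧ Cm T f w ∧ ¬ Cm T g w ∧ Cm T a w ∧ ¬ Cm T t w) : Cm T b w := by
  obtain ⟨u, i, F⟩ := exists_five_move T hpath hne
  have hi := F.hi
  have m : ∀ {p q : Fin 3510}, Cm T (T.A.f u p) (T.A.f u q) ↔ Cm T p q := cm_move T u
  obtain ⟨la, ta⟩ := mem_perp T F (q := T.A.f u a) (m.2 ha.1) (m.2 ha.2.1) (m.2 ha.2.2.1) (m.2 ha.2.2.2.1)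
    (m.2 ha.2.2.2.2)
  obtain ⟨lb, tb⟩ := mem_head T F (q := T.A.f u b) (fun h => hb.1 (m.1 h)) (m.2 hb.2.1) (m.2 hb.2.2.1)
    (m.2 hb.2.2.2.1) (m.2 hb.2.2.2.2.1)
  obtain ⟨lt, tt⟩ := mem_perp T F (q := T.A.f u t) (m.2 ht.1) (m.2 ht.2.1) (m.2 ht.2.2.1) (m.2 ht.2.2.2.1)
    (m.2 ht.2.2.2.2.1)
  obtain ⟨lw, -⟩ := mem_out T F (q := T.A.f u w) (m.2 hw.1) (m.2 hw.2.1) (m.2 hw.2.2.1) (m.2 hw.2.2.2.1)
    (fun h => hw.2.2.2.2.1 (m.1 h))
  have h := List.all_eq_true.1 chain_ok i (List.mem_range.2 hi)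
  simp only [chainOK, List.all_eq_true] at h
  have h' := h _ la _ lt _ lb _ lw
  rw [(fixP_iff T ta).2 (m.2 ht.2.2.2.2.2.1), fixP_false T tb (fun h => hb.2.2.2.2.2 (m.1 h)),
    (fixP_iff T tb).2 (m.2 ht.2.2.2.2.2.2), (fixP_iff T ta).2 (m.2 hw.2.2.2.2.2.1),
    fixP_false T tt (fun h => hw.2.2.2.2.2.2 (m.1 h))] at h'
  exact m.1 ((fixP_iff T tb).1 (by simpa using h'))

/-- Seven members of type E7 whose Coxeter element to the ninth power is an eighth have an extension. -/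
theorem fork_fact {c d e f g h i t : Fin 3510}
    (hpath : ¬ Cm T c d ∧ ¬ Cm T d e ∧ ¬ Cm T e f ∧ ¬ Cm T f g ∧
      Cm T c e ∧ Cm T c f ∧ Cm T c g ∧ Cm T d f ∧ Cm T d g ∧ Cm T e g)
    (hne : c ≠ e ∧ c ≠ f ∧ c ≠ g ∧ d ≠ f ∧ d ≠ g ∧ e ≠ g)
    (hh : Cm T c h ∧ ¬ Cm T d h ∧ Cm T e h ∧ Cm T f h ∧ Cm T g h)
    (hi : Cm T c i ∧ Cm T d i ∧ Cm T e i ∧ Cm T f i ∧ Cm T g i ∧ ¬ Cm T h i)
    (ht : Cm T c t ∧ Cm T d t ∧ Cm T e t ∧ Cm T f t ∧ Cm T g t ∧ Cm T h t ∧ Cm T i t)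
    (y : ℕ → Q) (hy : y 2 = T.A.delta c ∧ y 3 = T.A.delta d ∧ y 4 = T.A.delta e ∧ y 5 = T.A.delta f ∧
      y 6 = T.A.delta g ∧ y 7 = T.A.delta h ∧ y 8 = T.A.delta i)
    (hW : wordVal y (List.replicate 9 [8, 7, 6, 5, 4, 3, 2]).flatten = T.A.delta t) :
    ∃ w, Cm T c w ∧ Cm T d w ∧ Cm T e w ∧ Cm T f w ∧ ¬ Cm T g w ∧ Cm T h w ∧ Cm T i w ∧ ¬ Cm T t w := by
  obtain ⟨u, k, F⟩ := exists_five_move T hpath hne
  have hk := F.hi
  obtain ⟨-, e0, e1, e2, e3, e7⟩ := id F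
  have m : ∀ {p q : Fin 3510}, Cm T (T.A.f u p) (T.A.f u q) ↔ Cm T p q := cm_move T u
  obtain ⟨lh, th⟩ := mem_mid T F (q := T.A.f u h) (m.2 hh.1) (fun e => hh.2.1 (m.1 e)) (m.2 hh.2.2.1)
    (m.2 hh.2.2.2.1) (m.2 hh.2.2.2.2)
  obtain ⟨li, ti⟩ := mem_perp T F (q := T.A.f u i) (m.2 hi.1) (m.2 hi.2.1) (m.2 hi.2.2.1) (m.2 hi.2.2.2.1)
    (m.2 hi.2.2.2.2.1)
  obtain ⟨lt, tt⟩ := mem_perp T F (q := T.A.f u t) (m.2 ht.1) (m.2 ht.2.1) (m.2 ht.2.2.1) (m.2 ht.2.2.2.1)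
    (m.2 ht.2.2.2.2.1)
  obtain ⟨hall, hfour⟩ := listed_ok
  simp only [List.all_eq_true, List.mem_range, Bool.and_eq_true] at hall hfour
  have hcheck : forkOK k = true := by
    interval_cases k
    exacts [fork0_ok, fork1_ok, fork2_ok]
  simp only [forkOK, List.all_eq_true] at hcheck
  have h' := hcheck _ li _ lh _ lt
  rw [fixP_false T th (fun h => hi.2.2.2.2.2 (m.1 h)), (fixP_iff T th).2 (m.2 ht.2.2.2.2.2.1),
    (fixP_iff T ti).2 (m.2 ht.2.2.2.2.2.2)] at h'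
  simp only [Bool.not_false, Bool.and_self, Bool.not_true, Bool.false_or, Bool.or_eq_true, List.any_eq_true,
    Bool.and_eq_true, Bool.not_eq_true', List.mem_range] at h'
  rcases h' with ⟨w, hw, ⟨hhw, hiw⟩, htw⟩ | ⟨g', hg', hne'⟩
  · obtain ⟨hwl, hwt⟩ : w < 3510 ∧ inTable w = true := by
      have := (hall k hk).2 1 (by norm_num) w hw
      refine ⟨?_, this⟩
      obtain ⟨h1, h2⟩ := mem_table T this
      rw [← h2]
      exact T.A.twalk_lt h1 (T.A.pts_lt (by rw [T.hk]; norm_num))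
    obtain ⟨w', hw'⟩ : ∃ w', T.A.f u w' = ⟨w, hwl⟩ := ⟨_, (T.A.f u).apply_symm_apply _⟩
    have hwv : (T.A.f u w').1 = w := by rw [hw']
    refine ⟨w', ?_⟩
    rw [← hwv] at hhw hiw htw hw
    have hconds := hw
    have key : twalk Fi22U62.tabP 9 (tword 0) w = w ∧ twalk Fi22U62.tabP 9 (tword 2) w = w ∧
        twalk Fi22U62.tabP 9 (tword 6) w = w ∧ twalk Fi22U62.tabP 9 (tword 16) w = w ∧
        twalk Fi22U62.tabP 9 (tword (fifth k)) w ≠ w :=
      (show ∀ i < 3, ∀ w ∈ listOf i 1, twalk Fi22U62.tabP 9 (tword 0) w = w ∧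
        twalk Fi22U62.tabP 9 (tword 2) w = w ∧ twalk Fi22U62.tabP 9 (tword 6) w = w ∧
        twalk Fi22U62.tabP 9 (tword 16) w = w ∧ twalk Fi22U62.tabP 9 (tword (fifth i)) w ≠ w by
          decide +kernel) k hk w (hwv ▸ hw)
    obtain ⟨k0, k1, k2, k3, k4⟩ := key
    refine ⟨m.1 ?_, m.1 ?_, m.1 ?_, m.1 ?_, fun h => k4 ?_, m.1 ((fixP_iff T th).1 hhw),
      m.1 ((fixP_iff T ti).1 hiw), fun h => ?_⟩
    · rw [cm_iff T (F.vc ▸ hfour 0 (by simp)), F.vc, hwv]; exact k0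
    · rw [cm_iff T (F.vd ▸ hfour 2 (by simp)), F.vd, hwv]; exact k1
    · rw [cm_iff T (F.ve ▸ hfour 6 (by simp)), F.ve, hwv]; exact k2
    · rw [cm_iff T (F.vf ▸ hfour 16 (by simp)), F.vf, hwv]; exact k3
    · have := m.2 h
      rw [cm_iff T (F.vg ▸ (hall k hk).1), F.vg, hwv] at this
      exact this
    · rw [(fixP_iff T tt).2 (m.2 h)] at htw
      exact Bool.noConfusion htw
  · exfalso
    obtain ⟨Y, hY⟩ : ∃ Y : ℕ → Q, Y = fun n => u * y n * u⁻¹ := ⟨_, rfl⟩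
    obtain ⟨vals, hvals⟩ : ∃ vals : List ℕ,
        vals = [(T.A.f u i).1, (T.A.f u h).1, fifth k, 16, 6, 2, 0] := ⟨_, rfl⟩
    have htab : ∀ p ∈ vals, inTable p = true := by
      rw [hvals]
      simp [th, ti, (hall k hk).1, hfour 0, hfour 2, hfour 6, hfour 16]
    have hone : ∀ p (hp : p < 3510), inTable p = true → wordVal T.A.x (tword p) = T.A.delta ⟨p, hp⟩ :=
      fun p hp h => (delta_tword T h hp).1.symm
    have hflat : ∀ l : List ℕ, (∀ n ∈ l, n ∈ [8, 7, 6, 5, 4, 3, 2]) →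
        wordVal T.A.x ((l.map fun n => vals.getD (8 - n) 0).flatMap tword) = wordVal Y l ∧
          ∀ g ∈ (l.map fun n => vals.getD (8 - n) 0).flatMap tword, g < T.A.k := by
      intro l
      induction l with
      | nil => exact fun _ => ⟨rfl, by simp⟩
      | cons n l ih =>
        intro hl
        obtain ⟨ih1, ih2⟩ := ih fun a ha => hl a (List.mem_cons_of_mem _ ha)
        have hn : n ∈ [8, 7, 6, 5, 4, 3, 2] := hl n List.mem_cons_self
        have hne : n ≠ eps := (show ∀ n ∈ [8, 7, 6, 5, 4, 3, 2], n ≠ eps by decide) n hn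
        have hlen : vals.length = 7 := by rw [hvals]; rfl
        have hn8 : 8 - n < 7 := (show ∀ n ∈ [8, 7, 6, 5, 4, 3, 2], 8 - n < 7 by decide) n hn
        have hin : inTable (vals.getD (8 - n) 0) = true := by
          rw [List.getD_eq_getElem _ _ (hlen ▸ hn8)]; exact htab _ (List.getElem_mem _)
        obtain ⟨w1, w2⟩ := mem_table T hin
        have hp : vals.getD (8 - n) 0 < 3510 := by
          rw [← w2]; exact T.A.twalk_lt w1 (T.A.pts_lt (by rw [T.hk]; norm_num))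
        have hval : wordVal T.A.x (tword (vals.getD (8 - n) 0)) = Y n := by
          rw [hone _ hp hin, hY]
          show T.A.delta ⟨_, hp⟩ = u * y n * u⁻¹
          simp only [List.mem_cons, List.not_mem_nil, or_false] at hn
          obtain ⟨y2, y3, y4, y5, y6, y7, y8⟩ := hy
          rcases hn with rfl | rfl | rfl | rfl | rfl | rfl | rfl
          · rw [y8, ← T.A.delta_apply]; congr 1; apply Fin.ext; simp [hvals]
          · rw [y7, ← T.A.delta_apply]; congr 1; apply Fin.ext; simp [hvals]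
          · rw [y6, ← T.A.delta_apply]; congr 1; apply Fin.ext; simp [hvals, e7]
          · rw [y5, ← T.A.delta_apply]; congr 1; apply Fin.ext; simp [hvals, e3]
          · rw [y4, ← T.A.delta_apply]; congr 1; apply Fin.ext; simp [hvals, e2]
          · rw [y3, ← T.A.delta_apply]; congr 1; apply Fin.ext; simp [hvals, e1]
          · rw [y2, ← T.A.delta_apply]; congr 1; apply Fin.ext; simp [hvals, e0]
        refine ⟨?_, fun a ha => ?_⟩
        · rw [List.map_cons, List.flatMap_cons, wordVal_append, ih1, hval, wordVal, CosetEnum.gen, if_neg hne]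
        · rw [List.map_cons, List.flatMap_cons, List.mem_append] at ha
          exact ha.elim ((delta_tword T hin hp).2 a) (ih2 a)
    obtain ⟨v1, v2⟩ := hflat (List.replicate 9 [8, 7, 6, 5, 4, 3, 2]).flatten (by decide)
    have hmap : ((List.replicate 9 [8, 7, 6, 5, 4, 3, 2]).flatten.map fun n => vals.getD (8 - n) 0) =
        (List.replicate 9 [(T.A.f u i).1, (T.A.f u h).1, fifth k, 16, 6, 2, 0]).flatten := by
      rw [List.map_flatten, List.map_replicate, hvals]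
      rfl
    rw [hmap] at v1 v2
    have hYW : wordVal Y (List.replicate 9 [8, 7, 6, 5, 4, 3, 2]).flatten =
        T.A.delta (T.A.f u t) := by
      rw [T.A.delta_apply, ← hW, show Y = fun n => (MulAut.conj u).toMonoidHom (y n) from hY, ← map_wordVal]
      rfl
    have hw2 := (delta_tword T tt (T.A.f u t).2)
    have e : T.A.f (wordVal T.A.x (sevenWord [(T.A.f u i).1, (T.A.f u h).1, fifth k, 16, 6, 2, 0])) =
        T.A.f (wordVal T.A.x (tword (T.A.f u t).1)) := by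
      rw [sevenWord, v1, hYW, ← hw2.1]
    have hg9 : g' < T.A.k := by rw [T.hk]; exact hg'
    have := congrArg (fun π => (π ⟨T.A.pts.getD g' 0, T.A.pts_lt hg9⟩).1) e
    simp only [sevenWord] at this hne'
    simp only [T.A.walk_apply v2, T.A.walk_apply hw2.2] at this
    rw [show T.A.Z = Fi22U62.tabP from T.hZ, T.hk, T.hp] at this
    rw [this, Nat.beq_refl] at hne'
    exact Bool.noConfusion hne'

end Cfsg.Lib.Fischer.Cent23
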