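import Cfsg.Agent.Lib.CosetEnum.Fi22Mult.Valid23
import Cfsg.Agent.Lib.CosetEnum.Fi22U62.Data
import Cfsg.Agent.Lib.CosetEnum.Fi22Out.Data
import Cfsg.Agent.Lib.CosetEnum.Fi22Two.ChecksTwo

/-! Kernel checks on relator words. -/

set_option autoImplicit false
set_option maxRecDepth 100000

namespace Cfsg.Lib.Fischer.Cent23

open Cfsg.Lib.CosetEnum Cfsg.Lib.CosetEnum.Fi22Mult

/-- Exchange the two long arms. -/
def armSwap (g : Nat) : Nat := [6, 5, 4, 3, 2, 1, 0, 7, 8].getD g g

/-- The ninth power of the Coxeter element on the seven generators away from the first two. -/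
def wordRight : List Nat := (List.replicate 9 [8, 7, 6, 5, 4, 3, 2]).flatten

/-- The same word in Fi23 as the centre of the double cover. -/
noncomputable def isCentre (w : List Nat) : Bool :=
  sameOK Fi23Fi22.tabP 10 Fi23Out.pts (w.map to23) centre23

/-- The word is trivial in Fi23. -/
noncomputable def isOne (w : List Nat) : Bool := sameOK Fi23Fi22.tabP 10 Fi23Out.pts (w.map to23) []

theorem swap_rels :
    (isOne ((Fi22Pres.extra.getD 0 []).map armSwap) && isCentre ((Fi22Pres.extra.getD 1 []).map armSwap) &&
      isOne ((Fi22Pres.extra.getD 2 []).map armSwap) && isCentre wordRight &&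
      isOne (Fi22Pres.extra.getD 0 []) && isOne (Fi22Pres.extra.getD 1 []) &&
      isCentre (Fi22Pres.extra.getD 2 [])) = true := by decide +kernel

theorem swap_words :
    ([Fi22Pres.extra.getD 0 [], Fi22Pres.extra.getD 1 [], wordRight].all fun w =>
      (w.all fun g => Nat.blt g 9) &&
      sameOK Fi22U62.tabP 9 Fi22Out.pts w [] && sameOK Fi22U62.tabP 9 Fi22Out.pts (w.map armSwap) []) = true := by
  decide +kernel

theorem swap_pairs : Fi22Pres.numbering.pairs.all (fun r => decide (r.map armSwap ∈ Fi22Pres.numbering.pairs)) = true := by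
  decide +kernel

theorem seven_coord :
    ((Fi22Two.leftTarget.map fun j => Fi22Two.coord.getD j 0).foldr Nat.xor 0 = 1024) ∧
    ((Fi22Two.rightTarget.map fun j => Fi22Two.coord.getD j 0).foldr Nat.xor 0 = 0) := by decide +kernel

end Cfsg.Lib.Fischer.Cent23
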