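import Cfsg.Agent.Lib.Fischer.Cent23.Base
import Cfsg.Agent.Lib.Fischer.Cent23.WordChecks
import Cfsg.Agent.Lib.Fischer.TypeM23.ScanSwap
import Cfsg.Agent.Lib.CosetEnum.Fi22Cover

/-!
# Nine lifts with the relations of the centralizer of a transposition of Fi23

The values of the relators are read off in Fi23 once those of the presentation of Fi22 are known.
-/

set_option autoImplicit false
set_option linter.unusedSectionVars false
set_option maxRecDepth 100000

namespace Cfsg.Lib.Fischer.Cent23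

open Cfsg Cfsg.Spor Cfsg.Lib.CosetEnum Cfsg.Lib.CosetEnum.Fi22Two Cfsg.Lib.CosetEnum.Fi22Mult
open Cfsg.Lib.Fischer.M23 (adjB pattern_ok)
open Fi22U62 (tabP)
open Fi22Out (pts)

/-- The generators of Fi23. -/
noncomputable def x23 : ℕ → Cfsg.Spor.Fi23 := Fi23Pres.numbering.gens Fi23.extra

/-- The centre of the double cover inside Fi23. -/
noncomputable def delta23 : Cfsg.Spor.Fi23 := wordVal x23 centre23

theorem fi23_facts : Finite Cfsg.Spor.Fi23 ∧ IsSimpleGroup Cfsg.Spor.Fi23 ∧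
    Subgroup.center Cfsg.Spor.Fi23 = ⊥ := by
  have hFi : Cfsg.IsFi23 Cfsg.Spor.Fi23 := Fi23Pres.isFi23
  have hsimple : IsSimpleGroup Cfsg.Spor.Fi23 := hFi.1
  have hfin : Finite Cfsg.Spor.Fi23 := Nat.finite_of_card_ne_zero (by rw [hFi.2]; decide)
  refine ⟨hfin, hsimple, ((Subgroup.center Cfsg.Spor.Fi23).normal_of_characteristic.eq_bot_or_eq_top).resolve_right
    fun h => ?_⟩
  let : CommGroup Cfsg.Spor.Fi23 := Group.commGroupOfCenterEqTop h
  have := IsSimpleGroup.prime_card (α := Cfsg.Spor.Fi23)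
  rw [hFi.2] at this
  exact Nat.not_prime_mul (a := 2) (b := 2044735236646502400) (by decide) (by decide) this

theorem same23 {u v : List ℕ} (h : sameOK Fi23Fi22.tabP 10 Fi23Out.pts u v = true) :
    wordVal x23 u = wordVal x23 v := by
  obtain ⟨A, hZ, hk, hp, hx, -⟩ := Fi23Out.exists_table
  rw [show x23 = A.x from hx.symm]
  exact A.eq_of_sameOK fi23_facts.2.2 (by rw [hZ, hk, hp]; exact h)

theorem delta23_sq : delta23 * delta23 = 1 := by
  rw [delta23, ← wordVal_append, same23 centre23_sq]; rfl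

theorem delta23_ne : delta23 ≠ 1 := by
  intro h
  obtain ⟨A, hZ, hk, hp, hx, -⟩ := Fi23Out.exists_table
  obtain ⟨g, hg, hne⟩ := centre23_ne
  have hw : ∀ a ∈ centre23, a < A.k := by rw [hk]; decide +kernel
  apply hne
  have := A.walk_apply hw ⟨A.pts.getD g 0, A.pts_lt (by rw [hk]; exact hg)⟩
  rw [show wordVal A.x centre23 = 1 by rw [hx]; exact h, map_one] at this
  have e : twalk A.Z A.k centre23 (A.pts.getD g 0) = A.pts.getD g 0 := this.symm
  simpa only [hZ, hk, hp] using e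

theorem x23_single {g : ℕ} (hg : g < 10) : wordVal x23 [g] = x23 g := by
  rw [wordVal, wordVal, CosetEnum.gen, if_neg (by simp only [eps]; omega), one_mul]

theorem delta23_comm {g : ℕ} (hg : g < 9) : Commute delta23 (x23 (to23 g)) := by
  have h := same23 (List.all_eq_true.1 centre23_comm g (List.mem_range.2 hg))
  rw [wordVal_append, wordVal_append, x23_single ((show ∀ g < 9, to23 g < 10 by decide) g hg)] at h
  exact h.symm

theorem to23_pairs {r : List ℕ} (hr : r ∈ Fi22Pres.numbering.pairs) :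
    wordVal (fun g => x23 (to23 g)) r = 1 ∧ ∀ g ∈ r, g < 9 := by
  have h := List.all_eq_true.1 rel23 r (List.mem_append_left _ hr)
  simp only [Bool.and_eq_true, List.all_eq_true, Nat.blt_eq, decide_eq_true_eq] at h
  refine ⟨?_, h.1⟩
  rw [WordPres.wordVal_map x23 (k := 9) (by decide) to23 (by decide) r h.1]
  exact Fi23Pres.numbering.wordVal_gens (by decide) (Fi23Pres.map_extra _ (Fi23Pres.numbering.gens_mul_self Fi23.extra))
    _ ((show Fi23Fi22.cert.R0 = Fi23Pres.numbering.pairs ++ Fi23Pres.extra by decide +kernel) ▸ h.2)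

theorem map_map_val {w : List ℕ} (hw : ∀ g ∈ w, g < 9) :
    wordVal (fun g => x23 (to23 g)) w = wordVal x23 (w.map to23) :=
  WordPres.wordVal_map x23 (k := 9) (by decide) to23 (by decide) w hw

theorem one22 {w : List ℕ} (h : sameOK tabP 9 pts w [] = true) :
    wordVal (Fi22Pres.numbering.gens Fi22.extra) w = 1 := by
  obtain ⟨A, hZ, hk, hp, hx, -, -, hd, hidx, -⟩ := Fi22Out.exists_table
  have hFi : Cfsg.IsFi22 Cfsg.Spor.Fi22 := Fi22Pres.isFi22
  have hsimple : IsSimpleGroup Cfsg.Spor.Fi22 := hFi.1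
  have hc : Subgroup.center Cfsg.Spor.Fi22 = ⊥ := by
    refine ((Subgroup.center Cfsg.Spor.Fi22).normal_of_characteristic.eq_bot_or_eq_top).resolve_right
      fun h => ?_
    have hcen : Subgroup.centralizer ({A.d} : Set Cfsg.Spor.Fi22) = ⊤ := by
      rw [eq_top_iff]
      intro u _
      rw [Subgroup.mem_centralizer_singleton_iff]
      exact Subgroup.mem_center_iff.1 (h ▸ Subgroup.mem_top A.d) u
    rw [hcen, Subgroup.index_top] at hidx
    omega
  rw [← hx]
  exact A.eq_of_sameOK hc (v := []) (by rw [hZ, hk, hp]; exact h)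

theorem val_congr {M : Type*} [Group M] {a b : ℕ → M} : ∀ {w : List ℕ}, (∀ g ∈ w, a g = b g) →
    wordVal a w = wordVal b w
  | [], _ => rfl
  | g :: w, h => by
    rw [wordVal, wordVal, val_congr fun x hx => h x (List.mem_cons_of_mem _ hx), CosetEnum.gen, CosetEnum.gen]
    split_ifs
    · rfl
    · rw [h g List.mem_cons_self]

theorem val_map {M : Type*} [Group M] (a : ℕ → M) (σ : ℕ → ℕ) (hσ : ∀ g < 9, σ g ≠ eps) {w : List ℕ}
    (hw : ∀ g ∈ w, g < 9) : wordVal (fun g => a (σ g)) w = wordVal a (w.map σ) :=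
  WordPres.wordVal_map a (k := 9) (by decide) σ hσ w hw

section Transfer

variable {C : Type*} [Group C]

/-- Equal answers to the relators of Fi22 give equal answers to every trivial word. -/
theorem transfer {z : C} (hz : ∀ c, Commute z c) (hz2 : z * z = 1) (y : ℕ → C) (hy : ∀ g, y g * y g = 1)
    (x : ℕ → Cfsg.Spor.Fi23) (hx : ∀ g, x g * x g = 1) (hcomm : ∀ g, Commute delta23 (x g))
    (hrel : ∀ r ∈ Fi22Pres.numbering.pairs ++ Fi22Pres.extra,
      (wordVal y r = 1 ∧ wordVal x r = 1) ∨ (wordVal y r = z ∧ wordVal x r = delta23))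
    {w : List ℕ} (hall : ∀ g ∈ w, g < 9) (hw : wordVal (Fi22Pres.numbering.gens Fi22.extra) w = 1) :
    (wordVal y w = 1 ∧ wordVal x w = 1) ∨ (wordVal y w = z ∧ wordVal x w = delta23) := by
  obtain ⟨c, hc⟩ : ∃ c : C × Cfsg.Spor.Fi23, c = (z, delta23) := ⟨_, rfl⟩
  obtain ⟨M, hM⟩ : ∃ M, M = Subgroup.centralizer ({c} : Set (C × Cfsg.Spor.Fi23)) := ⟨_, rfl⟩
  have hcM : c ∈ M := hM ▸ Subgroup.mem_centralizer_singleton_iff.2 rfl
  have hYM : ∀ g, (y g, x g) ∈ M := fun g => by
    rw [hM, Subgroup.mem_centralizer_singleton_iff, hc]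
    exact Prod.ext ((hz (y g)).symm.eq) ((hcomm g).symm.eq)
  let c' : M := ⟨c, hcM⟩
  let Z := Subgroup.zpowers c'
  have hcc : ∀ a : M, a * c' = c' * a := fun a => Subtype.ext (by
    exact Subgroup.mem_centralizer_singleton_iff.1 (hM ▸ a.2))
  have hZn : Z.Normal := ⟨fun a ha b => by
    rw [Subgroup.mem_center_iff.1 ((Subgroup.zpowers_le.2 (Subgroup.mem_center_iff.2 hcc)) ha) b,
      mul_inv_cancel_right]
    exact ha⟩
  have hc2 : c' ^ 2 = 1 := Subtype.ext (by
    show c ^ 2 = 1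
    rw [hc, pow_two]; exact Prod.ext hz2 delta23_sq)
  have hZcases : ∀ a ∈ Z, a = 1 ∨ a = c' := by
    intro a ha
    obtain ⟨i, rfl⟩ := Subgroup.mem_zpowers_iff.1 ha
    rcases Int.even_or_odd i with ⟨j, rfl⟩ | ⟨j, rfl⟩
    · left; rw [← two_mul, zpow_mul, zpow_ofNat, hc2, one_zpow]
    · right; rw [zpow_add, zpow_mul, zpow_ofNat, hc2, one_zpow, one_mul, zpow_one]
  let Y : ℕ → M := fun g => ⟨_, hYM g⟩
  have hval : ∀ r, ((wordVal Y r : M) : C × Cfsg.Spor.Fi23) = (wordVal y r, wordVal x r) := fun r => by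
    rw [show ((wordVal Y r : M) : C × Cfsg.Spor.Fi23) = M.subtype (wordVal Y r) from rfl, map_wordVal]
    exact Prod.ext (map_wordVal (MonoidHom.fst C Cfsg.Spor.Fi23) _ r) (map_wordVal (MonoidHom.snd C Cfsg.Spor.Fi23) _ r)
  let q := QuotientGroup.mk' Z
  let N := Fi22Pres.numbering
  have hsq : ∀ g, q (Y g) * q (Y g) = 1 := fun g => by
    rw [← map_mul, show Y g * Y g = 1 from Subtype.ext (Prod.ext (hy g) (hx g)), map_one]
  have hlift := N.lift_eq_one (by decide) (fun g => q (Y g)) (Fi22Pres.map_extra _ hsq) (by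
    intro r hr
    rw [← map_wordVal q Y r]
    refine (QuotientGroup.eq_one_iff _).2 ?_
    rcases hrel r hr with ⟨h1, h2⟩ | ⟨h1, h2⟩
    · rw [show wordVal Y r = 1 from Subtype.ext (by rw [hval, h1, h2]; rfl)]
      exact one_mem _
    · rw [show wordVal Y r = c' from Subtype.ext (by rw [hval, h1, h2]; exact hc.symm)]
      exact Subgroup.mem_zpowers _)
  let φ : Cfsg.Spor.Fi22 →* M ⧸ Z := PresentedGroup.toGroup hlift
  have hφ : ∀ g, φ (N.gens Fi22.extra g) = q (if g < N.k then Y g else 1) := fun g => by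
    rw [Numbering.gens]
    split_ifs with h
    · show PresentedGroup.toGroup hlift (PresentedGroup.of (N.letter g)) = _
      rw [PresentedGroup.toGroup.of, N.num_letter g h]
    · rw [map_one, map_one]
  have h1 := congrArg φ hw
  rw [map_one, map_wordVal, show (fun g => φ (N.gens Fi22.extra g)) = fun g => q (if g < N.k then Y g else 1) from
    funext hφ, ← map_wordVal q] at h1
  have hmem := (QuotientGroup.eq_one_iff _).1 h1
  have e : wordVal (fun g => if g < N.k then Y g else 1) w = wordVal Y w :=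
    val_congr fun g hg => if_pos (hall g hg)
  rw [e] at hmem
  rcases hZcases _ hmem with h | h
  · left
    have := congrArg Subtype.val h
    rw [hval] at this
    exact ⟨congrArg Prod.fst this, congrArg Prod.snd this⟩
  · right
    have := congrArg Subtype.val h
    rw [hval] at this
    exact ⟨congrArg Prod.fst (this.trans hc), congrArg Prod.snd (this.trans hc)⟩

end Transfer

section Lifts

variable {C : Type*} [Group C] [Finite C] {Q : Type*} [Group Q] [Finite Q] {E : Set Q} {π : C →* Q} {z : C}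

theorem seven_value (T : Fi22Norm.Fi22Tab Q E) (L : T.A.Lifts π) (hd : IsDouble π z) (hL : IsCoord z T L coord)
    {m t w : List ℕ} (hlen : m.length = t.length) (hw : ∀ g ∈ w, g < 9)
    (hm : ∀ i < m.length, t.getD i 0 < 22 ∧ m.getD i 0 < 3510 ∧
      twalk tabP 9 w (m.getD i 0) = clique.getD (t.getD i 0) 0) :
    ∃ c, c * L.prodSeq m * c⁻¹ = ev11 z T L ((t.map fun j => coord.getD j 0).foldr Nat.xor 0) := by
  obtain ⟨c, hc⟩ := hd.surj (wordVal T.A.x w)
  refine ⟨c, ?_⟩
  have key : ∀ (m t : List ℕ), m.length = t.length →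
      (∀ i < m.length, t.getD i 0 < 22 ∧ m.getD i 0 < 3510 ∧
        twalk tabP 9 w (m.getD i 0) = clique.getD (t.getD i 0) 0) →
      c * L.prodSeq m * c⁻¹ = ev11 z T L ((t.map fun j => coord.getD j 0).foldr Nat.xor 0) := by
    intro m
    induction m with
    | nil =>
      intro t ht _
      rw [List.length_nil] at ht
      rw [List.eq_nil_of_length_eq_zero ht.symm]
      simp [TransTable.Lifts.prodSeq, ev11_zero T L hd]
    | cons a m ih =>
      intro t ht hcond
      obtain ⟨b, t, rfl⟩ := List.exists_cons_of_length_pos (l := t) (by rw [← ht]; simp)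
      have h0 := hcond 0 (by simp)
      simp only [List.getD_cons_zero] at h0
      obtain ⟨hb, ha, hab⟩ := h0
      have ih' := ih t (by simpa using ht) fun i hi => by
        have := hcond (i + 1) (by simpa using hi)
        simpa using this
      rw [show (a :: m) = [a] ++ m from rfl, L.prodSeq_append, List.map_cons, List.foldr_cons]
      show _ = ev11 z T L (_ ^^^ _)
      rw [ev11_xor T L hd, ← ih', ← (hL.2 b hb).2, genL_eq T L hb]
      have e : L.prodSeq [a] = L.Y ⟨a, ha⟩ := by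
        simp [TransTable.Lifts.prodSeq, TransTable.Lifts.val, ha]
      rw [e, show c * (L.Y ⟨a, ha⟩ * L.prodSeq m) * c⁻¹ = (c * L.Y ⟨a, ha⟩ * c⁻¹) * (c * L.prodSeq m * c⁻¹) by group,
        equivariant T L hd, hc]
      congr 2
      refine Fin.ext ?_
      rw [T.A.walk_apply (fun g hg => T.hk.symm ▸ hw g hg), T.hZ, T.hk]
      exact hab
  exact key m t hlen hm

/-- The values of the relators of Fi22 on the lifts with standard coordinates. -/
theorem rel_values (T : Fi22Norm.Fi22Tab Q E) (L : T.A.Lifts π) (hd : IsDouble π z) (hL : IsCoord z T L coord) :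
    (∀ r ∈ Fi22Pres.numbering.pairs, wordVal L.y r = 1 ∧ Even r.length ∧ ∀ g ∈ r, g < 9) ∧
    wordVal L.y (Fi22Pres.extra.getD 0 []) = 1 ∧ wordVal L.y (Fi22Pres.extra.getD 1 []) = z ∧
    wordVal L.y (Fi22Pres.extra.getD 2 []) = 1 := by
  have hk0 : 0 < T.A.k := by rw [T.hk]; norm_num
  have hws : (Fi22Mult.words.all fun w => w.all fun g => Nat.blt g T.A.k) = true := by
    rw [T.hk]; exact Fi22Mult.words_ok
  have hws' : (moveWords.all fun w => w.all fun g => Nat.blt g T.A.k) = true := by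
    rw [T.hk]; exact moveWords_ok
  have hlt : ∀ r ∈ Fi22Pres.extra, ∀ g ∈ r, g < T.A.k := by rw [T.hk]; decide +kernel
  have hm : ∀ i < 3, Fi22Pres.extra.getD i [] ∈ Fi22Pres.extra := by decide +kernel
  obtain ⟨h78, hl1, hl2, hc1, hc2, -, -⟩ := seven_ok
  simp only [List.all_eq_true, List.mem_append, Nat.blt_eq] at h78
  simp only [List.all_eq_true, List.mem_range, Bool.and_eq_true, Nat.blt_eq, Nat.beq_eq, and_assoc] at hc1 hc2
  have hside : ∀ {r m t w : List ℕ} {ops : List (ℕ × ℕ)} {e : C}, r ∈ Fi22Pres.extra →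
      runSeq tabP 9 (pts.getD 0 0) moveWords ops (seqOf pts r) m = true →
      m.length = t.length → (∀ g ∈ w, g < 9) →
      (∀ i < m.length, t.getD i 0 < 22 ∧ m.getD i 0 < 3510 ∧
        twalk tabP 9 w (m.getD i 0) = clique.getD (t.getD i 0) 0) →
      ev11 z T L ((t.map fun j => coord.getD j 0).foldr Nat.xor 0) = e → (∀ c, Commute e c) →
      wordVal L.y r = e := by
    intro r m t w ops e hr hrun hlen hw hmt he hec
    rw [L.wordVal_y (hlt r hr), ← L.run_prod hk0 hws' (A := T.A) (ops := ops) (r := m)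
      (T.A.seqOf_lt (hlt r hr)) (by rw [T.hZ, T.hk, T.hp]; exact hrun)]
    obtain ⟨c, hc⟩ := seven_value T L hd hL hlen hw hmt
    rw [he] at hc
    calc L.prodSeq m = c⁻¹ * (c * L.prodSeq m * c⁻¹) * c := by group
      _ = e := by rw [hc, mul_assoc, (hec c).eq, inv_mul_cancel_left]
  refine ⟨fun r hr => ?_, ?_, ?_, ?_⟩
  · obtain ⟨h1, h2, h3⟩ := L.evens hk0 hws (by rw [T.hZ, T.hk, T.hp]; exact Fi22Mult.pairs_ok) r hr
    exact ⟨h1, h2, T.hk ▸ h3⟩
  · have hs : Fi22Pres.extra.getD 0 [] = Fi22Mult.relSpider := by decide +kernel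
    rw [hs]
    have hm1 : Fi22Mult.relSpider ∈ Fi22Pres.extra := hs ▸ hm 0 (by norm_num)
    have h' := L.run_prod hk0 hws
      (q := seqOf T.A.pts Fi22Mult.relSpider ++ seqOf T.A.pts Fi22Mult.relSpider ++ seqOf T.A.pts Fi22Mult.relSpider)
      (r := []) (ops := Fi22Mult.progSpider)
      (fun i hi => by
        simp only [List.mem_append, or_self] at hi
        exact T.A.seqOf_lt (hlt _ hm1) i hi) (by rw [T.hZ, T.hk, T.hp]; exact Fi22Mult.spider_run)
    rw [L.prodSeq_append, L.prodSeq_append, ← L.wordVal_y (hlt _ hm1)] at h'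
    have hπ : π (wordVal L.y Fi22Mult.relSpider) = 1 := by
      rw [L.proj_word (hlt _ hm1)]
      refine (T.A.eq_of_sameOK T.center (u := Fi22Mult.relSpider) (v := []) ?_).trans rfl
      rw [T.hZ, T.hk, T.hp]
      decide +kernel
    have hsq : wordVal L.y Fi22Mult.relSpider * wordVal L.y Fi22Mult.relSpider = 1 := by
      rcases (hd.ker_iff _).1 hπ with e | e <;> rw [e]
      exacts [one_mul 1, hd.sq]
    rw [hsq, one_mul] at h'
    exact h'.symm
  · exact hside (hm 1 (by norm_num)) leftProg_run hl1 (fun g hg => h78 g (Or.inl hg)) hc1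
      (by rw [seven_coord.1, ev11_top T L hd]) hd.central
  · exact hside (hm 2 (by norm_num)) rightProg_run hl2 (fun g hg => h78 g (Or.inr hg)) hc2
      (by rw [seven_coord.2, ev11_zero T L hd]) Commute.one_left

/-- Changing all lifts multiplies the value of a word by a power of the central involution. -/
theorem flip_value {T : Fi22Norm.Fi22Tab Q E} {L M : T.A.Lifts π} (hd : IsDouble π z) {e : C}
    (he : ∀ c, Commute e c) (hM : ∀ p, M.Y p = L.Y p * e) : ∀ {w : List ℕ}, (∀ g ∈ w, g < 9) →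
    wordVal M.y w = wordVal L.y w * e ^ w.length
  | [], _ => by simp [wordVal]
  | g :: w, h => by
    have hg : g < 9 := h g List.mem_cons_self
    have hgk : g < T.A.k := T.hk.symm ▸ hg
    rw [wordVal, wordVal, flip_value hd he hM fun a ha => h a (List.mem_cons_of_mem _ ha), CosetEnum.gen,
      CosetEnum.gen, if_neg (by simp only [eps]; omega), if_neg (by simp only [eps]; omega), TransTable.Lifts.y,
      TransTable.Lifts.y, if_pos hgk, if_pos hgk, TransTable.Lifts.val, TransTable.Lifts.val,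
      dif_pos (T.A.pts_lt hgk), dif_pos (T.A.pts_lt hgk), hM, List.length_cons, pow_succ]
    have hc : ∀ k : ℕ, Commute (e ^ k) (L.Y ⟨T.A.pts.getD g 0, T.A.pts_lt hgk⟩) := fun k => (he _).pow_left k
    simp only [mul_assoc]
    rw [← mul_assoc (e ^ w.length), (hc _).eq, mul_assoc]

end Lifts

variable {G : Type*} [Group G] [Finite G] {d : G} {Q : Type*} [Group Q] [Finite Q] {E : Set Q}
  {π : ↥(Subgroup.centralizer ({d} : Set G)) →* Q} {z : ↥(Subgroup.centralizer ({d} : Set G))}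

theorem cm_gens (T : Fi22Norm.Fi22Tab Q E) {r s : ℕ} (hr : r < 9) (hs : s < 9) :
    (Commute (T.A.x r) (T.A.x s) ↔ adjB r s = false) ∧ (r ≠ s → T.A.pts.getD r 0 ≠ T.A.pts.getD s 0) := by
  have h := pattern_ok
  simp only [List.all_eq_true, List.mem_range, Bool.and_eq_true, beq_iff_eq, Bool.or_eq_true] at h
  obtain ⟨h1, h2⟩ := h r hr s hs
  have hr' : r < T.A.k := by rw [T.hk]; exact hr
  have hs' : s < T.A.k := by rw [T.hk]; exact hs
  constructor
  · have key := T.A.commute_gen_iff hr' ⟨T.A.pts.getD s 0, T.A.pts_lt hs'⟩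
    rw [T.A.delta_pts hs'] at key
    simp only [twalk_cons, twalk_nil, T.hZ, T.hk, T.hp] at key
    rw [commute_iff_eq, key, ← Nat.beq_eq, h1]
    simp
  · intro hne e
    rw [T.hp] at e
    rcases h2 with h2 | h2
    · exact hne (Nat.eq_of_beq_eq_true h2)
    · rw [e, Nat.beq_refl] at h2
      exact Bool.noConfusion h2

/-- Nine conjugates of `d` in its centralizer with the relations that hold in Fi23. -/
theorem exists_nine (H : Hyp d E π z) (F : Frame E π z) :
    ∃ (p : ℕ → Fin 3510) (y : ℕ → ↥(Subgroup.centralizer ({d} : Set G))),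
      (∀ g < 9, y g = F.L.Y (p g)) ∧
      (∀ r < 9, ∀ s < 9, (Commute (F.T.A.delta (p r)) (F.T.A.delta (p s)) ↔ adjB r s = false) ∧
        (r ≠ s → p r ≠ p s)) ∧
      (∀ g, y g * y g = 1) ∧
      (∀ r ∈ Fi22Pres.numbering.pairs, wordVal y r = 1) ∧
      wordVal y (Fi22Pres.extra.getD 0 []) = 1 ∧ wordVal y (Fi22Pres.extra.getD 1 []) = 1 ∧
      wordVal y wordRight = z ∧ (Subgroup.closure (y '' {g | g < 9})).map π = ⊤ := by
  have hd := H.hd
  obtain ⟨hpairs₀, hv0, hv1, hv2⟩ := rel_values F.T F.L₀ hd F.coord_ok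
  obtain ⟨e, he⟩ : ∃ e, e = signZ z F.f := ⟨_, rfl⟩
  have hec : ∀ c, Commute e c := by
    rw [he, signZ]
    split_ifs
    exacts [fun c => Commute.one_left c, hd.central]
  have he2 : e ^ 2 = 1 := by
    rw [he, signZ, pow_two]
    split_ifs
    exacts [one_mul 1, hd.sq]
  have hlen : (Fi22Pres.extra.getD 0 []).length = 2 * 45 ∧ (Fi22Pres.extra.getD 1 []).length = 2 * 31 + 1 ∧
      (Fi22Pres.extra.getD 2 []).length = 2 * 31 + 1 := by decide +kernel
  have hlt : ∀ i < 3, ∀ g ∈ Fi22Pres.extra.getD i [], g < 9 := by decide +kernel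
  have flip := fun {w : List ℕ} (hw : ∀ g ∈ w, g < 9) => flip_value (L := F.L₀) (M := F.L) hd hec
    (fun p => he ▸ F.L_eq p) hw
  have hpairs : ∀ r ∈ Fi22Pres.numbering.pairs, wordVal F.L.y r = 1 ∧ ∀ g ∈ r, g < 9 := fun r hr => by
    obtain ⟨h1, ⟨m, hm⟩, h3⟩ := hpairs₀ r hr
    refine ⟨?_, h3⟩
    rw [flip h3, h1, hm, ← two_mul, pow_mul, he2, one_pow, mul_one]
  have f0 : wordVal F.L.y (Fi22Pres.extra.getD 0 []) = 1 := by
    rw [flip (hlt 0 (by norm_num)), hv0, hlen.1, pow_mul, he2, one_pow, mul_one]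
  have f1 : wordVal F.L.y (Fi22Pres.extra.getD 1 []) = z * e := by
    rw [flip (hlt 1 (by norm_num)), hv1, hlen.2.1, pow_succ, pow_mul, he2, one_pow, one_mul]
  have f2 : wordVal F.L.y (Fi22Pres.extra.getD 2 []) = e := by
    rw [flip (hlt 2 (by norm_num)), hv2, hlen.2.2, pow_succ, pow_mul, he2, one_pow, one_mul, one_mul]
  have hsw := swap_rels
  simp only [Bool.and_eq_true, isOne, isCentre] at hsw
  obtain ⟨⟨⟨⟨⟨⟨s0, s1⟩, s2⟩, sW⟩, o0⟩, o1⟩, o2⟩ := hsw
  have hex : ∀ r ∈ Fi22Pres.extra, r = Fi22Pres.extra.getD 0 [] ∨ r = Fi22Pres.extra.getD 1 [] ∨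
      r = Fi22Pres.extra.getD 2 [] := by decide +kernel
  have hw' := swap_words
  simp only [List.all_eq_true, Bool.and_eq_true, Nat.blt_eq, List.mem_cons, List.not_mem_nil, or_false] at hw'
  obtain ⟨σ, hσ9, hσσ, hσpairs, hσadj, hx, hW⟩ : ∃ σ : ℕ → ℕ, (∀ g < 9, σ g < 9) ∧ (∀ g < 9, σ (σ g) = g) ∧
      (∀ r ∈ Fi22Pres.numbering.pairs, r.map σ ∈ Fi22Pres.numbering.pairs) ∧
      (∀ r < 9, ∀ s < 9, adjB (σ r) (σ s) = adjB r s) ∧
      (∀ r ∈ Fi22Pres.extra,
        (wordVal F.L.y r = 1 ∧ wordVal x23 ((r.map σ).map to23) = 1) ∨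
        (wordVal F.L.y r = z ∧ wordVal x23 ((r.map σ).map to23) = delta23)) ∧
      ∀ w ∈ [Fi22Pres.extra.getD 0 [], Fi22Pres.extra.getD 1 [], wordRight],
        sameOK tabP 9 pts (w.map σ) [] = true := by
    rcases F.sign with hf | hf
    · refine ⟨armSwap, by decide, by decide, fun r hr => by simpa using List.all_eq_true.1 swap_pairs r hr,
        by decide +kernel, ?_,
        fun w hw => (hw' w (by simpa using hw)).2⟩
      have he1 : e = 1 := by rw [he, signZ, if_pos hf]
      intro r hr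
      rcases hex r hr with rfl | rfl | rfl
      · exact Or.inl ⟨f0, (same23 s0).trans rfl⟩
      · exact Or.inr ⟨by rw [f1, he1, mul_one], same23 s1⟩
      · exact Or.inl ⟨by rw [f2, he1], (same23 s2).trans rfl⟩
    · refine ⟨id, fun g h => h, fun g _ => rfl, fun r hr => by simpa using hr, fun r _ s _ => rfl, ?_,
        fun w hw => by simpa using (hw' w (by simpa using hw)).1.2⟩
      have he1 : e = z := by rw [he, signZ, if_neg (by omega)]
      intro r hr
      rcases hex r hr with rfl | rfl | rfl <;> rw [List.map_id]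
      · exact Or.inl ⟨f0, (same23 o0).trans rfl⟩
      · exact Or.inl ⟨by rw [f1, he1, hd.sq], (same23 o1).trans rfl⟩
      · exact Or.inr ⟨by rw [f2, he1], same23 o2⟩
  have hσe : ∀ g < 9, σ g ≠ eps := fun g hg => by have := hσ9 g hg; simp only [eps]; omega
  have to23_sq : ∀ g, x23 g * x23 g = 1 := Fi23Pres.numbering.gens_mul_self Fi23.extra
  obtain ⟨x, hxdef⟩ : ∃ x : ℕ → Cfsg.Spor.Fi23, x = fun g => if g < 9 then x23 (to23 (σ g)) else 1 := ⟨_, rfl⟩
  have hxval : ∀ {r : List ℕ}, (∀ g ∈ r, g < 9) → wordVal x r = wordVal x23 ((r.map σ).map to23) := fun {r} hr => by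
    rw [val_congr (a := x) (b := fun g => x23 (to23 (σ g))) (fun g hg => by rw [hxdef]; exact if_pos (hr g hg)),
      val_map (fun g => x23 (to23 g)) σ hσe hr, map_map_val]
    intro g hg
    obtain ⟨a, ha, rfl⟩ := List.mem_map.1 hg
    exact hσ9 a (hr a ha)
  have hrel : ∀ r ∈ Fi22Pres.numbering.pairs ++ Fi22Pres.extra,
      (wordVal F.L.y r = 1 ∧ wordVal x r = 1) ∨ (wordVal F.L.y r = z ∧ wordVal x r = delta23) := by
    intro r hr
    rcases List.mem_append.1 hr with hr | hr
    · left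
      refine ⟨(hpairs r hr).1, ?_⟩
      rw [hxval (hpairs r hr).2, ← map_map_val (to23_pairs (hσpairs r hr)).2]
      exact (to23_pairs (hσpairs r hr)).1
    · have hlt' : ∀ g ∈ r, g < 9 := by
        rcases hex r hr with rfl | rfl | rfl
        exacts [hlt 0 (by norm_num), hlt 1 (by norm_num), hlt 2 (by norm_num)]
      rw [hxval hlt']
      exact hx r hr
  have hkey : ∀ w ∈ [Fi22Pres.extra.getD 0 [], Fi22Pres.extra.getD 1 [], wordRight],
      (wordVal F.L.y (w.map σ) = 1 ∧ wordVal x23 (w.map to23) = 1) ∨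
      (wordVal F.L.y (w.map σ) = z ∧ wordVal x23 (w.map to23) = delta23) := by
    intro w hw
    have hwlt : ∀ g ∈ w, g < 9 := (hw' w (by simpa using hw)).1.1
    have hσlt : ∀ g ∈ w.map σ, g < 9 := fun g hg => by
      obtain ⟨a, ha, rfl⟩ := List.mem_map.1 hg
      exact hσ9 a (hwlt a ha)
    have h := transfer hd.central hd.sq F.L.y F.L.y_sq x
      (fun g => by
        rw [hxdef]
        show (if g < 9 then x23 (to23 (σ g)) else 1) * (if g < 9 then x23 (to23 (σ g)) else 1) = 1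
        split_ifs
        exacts [to23_sq _, one_mul 1])
      (fun g => by
        rw [hxdef]
        show Commute delta23 (if g < 9 then x23 (to23 (σ g)) else 1)
        split_ifs with h
        exacts [delta23_comm (hσ9 g h), Commute.one_right _])
      hrel hσlt (one22 (hW w hw))
    rwa [hxval hσlt, show (w.map σ).map σ = w by
      rw [List.map_map]
      exact (List.map_congr_left fun a ha => hσσ a (hwlt a ha)).trans (List.map_id w)] at h
  have hk9 : ∀ g < 9, g < F.T.A.k := fun g hg => F.T.hk.symm ▸ hg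
  obtain ⟨p, hp⟩ : ∃ p : ℕ → Fin 3510, ∀ g, ∀ h : g < 9,
      p g = ⟨F.T.A.pts.getD (σ g) 0, F.T.A.pts_lt (hk9 _ (hσ9 g h))⟩ :=
    ⟨fun g => if h : g < 9 then ⟨F.T.A.pts.getD (σ g) 0, F.T.A.pts_lt (hk9 _ (hσ9 g h))⟩
      else ⟨0, by norm_num⟩, fun g h => dif_pos h⟩
  have hy : ∀ g < 9, (fun g => F.L.y (σ g)) g = F.L.Y (p g) := fun g hg => by
    show F.L.y (σ g) = _
    rw [TransTable.Lifts.y, if_pos (hk9 _ (hσ9 g hg)), TransTable.Lifts.val,
      dif_pos (F.T.A.pts_lt (hk9 _ (hσ9 g hg))), hp g hg]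
  have hmap : ∀ {r : List ℕ}, (∀ g ∈ r, g < 9) →
      wordVal (fun g => F.L.y (σ g)) r = wordVal F.L.y (r.map σ) := fun hr => val_map _ σ hσe hr
  refine ⟨p, fun g => F.L.y (σ g), hy, fun r hr s hs => ?_, fun g => F.L.y_sq _, fun r hr => ?_, ?_, ?_, ?_, ?_⟩
  · obtain ⟨h1, h2⟩ := cm_gens F.T (hσ9 r hr) (hσ9 s hs)
    have hadj' : adjB (σ r) (σ s) = adjB r s := hσadj r hr s hs
    refine ⟨?_, fun hne e => h2 (fun e' => hne ?_) ?_⟩
    · rw [hp r hr, hp s hs, F.T.A.delta_pts (hk9 _ (hσ9 r hr)), F.T.A.delta_pts (hk9 _ (hσ9 s hs)), h1, hadj']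
    · rw [← hσσ r hr, e', hσσ s hs]
    · rw [hp r hr, hp s hs] at e
      exact congrArg Fin.val e
  · rw [hmap (hpairs r hr).2]
    exact (hpairs _ (hσpairs r hr)).1
  · rw [hmap (hlt 0 (by norm_num))]
    rcases hkey (Fi22Pres.extra.getD 0 []) (by simp) with h | h
    · exact h.1
    · exact absurd (((same23 o0).trans rfl).symm.trans h.2).symm delta23_ne
  · rw [hmap (hlt 1 (by norm_num))]
    rcases hkey (Fi22Pres.extra.getD 1 []) (by simp) with h | h
    · exact h.1
    · exact absurd (((same23 o1).trans rfl).symm.trans h.2).symm delta23_ne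
  · rw [hmap (hw' wordRight (by simp)).1.1]
    rcases hkey wordRight (by simp) with h | h
    · exact absurd ((same23 sW).symm.trans h.2) delta23_ne
    · exact h.1
  · rw [MonoidHom.map_closure, eq_top_iff, ← F.T.A.gen, Subgroup.closure_le]
    rintro _ ⟨g, hg, rfl⟩
    have hg9 : g < 9 := F.T.hk ▸ hg
    refine Subgroup.subset_closure ⟨F.L.y g, ⟨σ g, hσ9 g hg9, ?_⟩, F.L.proj_y hg⟩
    show F.L.y (σ (σ g)) = _
    rw [hσσ g hg9]

end Cfsg.Lib.Fischer.Cent23
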