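import Cfsg.Agent.Lib.Fischer.Cent23.Local
import Cfsg.Agent.Lib.Fischer.Cent23.Values
import Cfsg.Agent.Lib.Fischer.Cent23.Scan
import Cfsg.Agent.Lib.CosetEnum.Fi23Trans.Valid
import Mathlib.GroupTheory.Perm.Cycle.Type

/-!
# Fi23 inside a group with such a centralizer of an involution

The nine lifts get a tenth member from the centralizer of the first one; the relations of the presentation
of Fi23 hold for the ten.
-/

set_option autoImplicit false
set_option linter.unusedSectionVars false
set_option maxRecDepth 100000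

namespace Cfsg.Lib.Fischer.Cent23

open Cfsg Cfsg.Spor Cfsg.Lib.CosetEnum Cfsg.Lib.CosetEnum.Fi22Two Cfsg.Lib.CosetEnum.Fi22Mult
open Cfsg.Lib.Fischer.M23 (adjB)

/-! ### The class in Fi23 -/

theorem gen_conj23 : IsConj delta23 (x23 0) := by
  have h := same23 (show sameOK Fi23Fi22.tabP 10 Fi23Out.pts centre23 (conjWord Fi23Trans.word.reverse) = true by
    decide +kernel)
  have hsq : ∀ g, x23 g * x23 g = 1 := Fi23Pres.numbering.gens_mul_self Fi23.extra
  rw [conjWord, wordVal_append, wordVal_append, wordVal_reverse hsq, x23_single (by norm_num)] at h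
  rw [List.reverse_reverse] at h
  refine isConj_iff.2 ⟨wordVal x23 Fi23Trans.word, ?_⟩
  rw [delta23, h]
  group

theorem class23 :
    Cfsg.IsThreeTranspositionClass (conjugatesOf delta23) ∧ Nat.card (conjugatesOf delta23) = 31671 := by
  obtain ⟨A, hZ, hk, hp, hx, -, -, -, -, hcls⟩ := Fi23Out.exists_table
  have h0 : IsConj A.d (x23 0) := by
    rw [show x23 = A.x from hx.symm, ← A.delta_pts (g := 0) (by rw [hk]; norm_num)]
    exact (A.isConj_iff_exists _).2 ⟨_, rfl⟩
  have e : conjugatesOf delta23 = conjugatesOf A.d :=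
    (gen_conj23.conjugatesOf_eq).trans h0.conjugatesOf_eq.symm
  rw [e]
  refine ⟨hcls, ?_⟩
  have hb : Function.Bijective (fun p => (⟨A.delta p, (A.isConj_iff_exists _).2 ⟨p, rfl⟩⟩ : conjugatesOf A.d)) :=
    ⟨fun p q h => A.delta_injective (congrArg Subtype.val h), fun x => by
      obtain ⟨p, hp⟩ := (A.isConj_iff_exists x.1).1 x.2
      exact ⟨p, Subtype.ext hp⟩⟩
  rw [← Nat.card_eq_of_bijective _ hb, Nat.card_eq_fintype_card, Fintype.card_fin]

/-- An involution commutes with some member of the class. -/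
theorem exists_commute23 (u : Cfsg.Spor.Fi23) (hu : u * u = 1) :
    ∃ x ∈ conjugatesOf delta23, Commute u x := by
  classical
  have := fi23_facts.1
  have : Fact (Nat.Prime 2) := ⟨Nat.prime_two⟩
  have hinv : u⁻¹ = u := inv_eq_of_mul_eq_one_left hu
  let σ : Equiv.Perm (conjugatesOf delta23) :=
    { toFun := fun x => ⟨u * x.1 * u⁻¹, IsConj.trans x.2 (isConj_iff.2 ⟨u, rfl⟩)⟩
      invFun := fun x => ⟨u * x.1 * u⁻¹, IsConj.trans x.2 (isConj_iff.2 ⟨u, rfl⟩)⟩
      left_inv := fun x => Subtype.ext <| by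
        show u * (u * x.1 * u⁻¹) * u⁻¹ = x.1
        rw [hinv, ← mul_assoc, ← mul_assoc, hu, one_mul, mul_assoc, hu, mul_one]
      right_inv := fun x => Subtype.ext <| by
        show u * (u * x.1 * u⁻¹) * u⁻¹ = x.1
        rw [hinv, ← mul_assoc, ← mul_assoc, hu, one_mul, mul_assoc, hu, mul_one] }
  let : Fintype (conjugatesOf delta23) := Fintype.ofFinite _
  obtain ⟨x, hx⟩ := Equiv.Perm.exists_fixed_point_of_prime (p := 2) (n := 1) (σ := σ)
    (by rw [← Nat.card_eq_fintype_card, class23.2]; norm_num)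
    (by rw [pow_one, pow_two]; exact Equiv.ext fun x => σ.left_inv x)
  refine ⟨x.1, x.2, ?_⟩
  have e : u * x.1 * u⁻¹ = x.1 := congrArg Subtype.val hx
  exact mul_inv_eq_iff_eq_mul.1 e

/-! ### The embedding -/

/-- Fi23 in `G`, the image of the central involution being `d`, with its centralizer. -/
structure Emb {G : Type*} [Group G] (d : G) where
  F : Cfsg.Spor.Fi23 →* G
  inj : Function.Injective F
  delta : F delta23 = d
  cent : Subgroup.centralizer ({d} : Set G) ≤ F.range
  near : ∃ u, IsConj delta23 u ∧ Commute (F u) d ∧ F u ≠ d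

variable {G : Type*} [Group G] [Finite G] {d : G} {Q : Type*} [Group Q] [Finite Q] {E : Set Q}
  {π : ↥(Subgroup.centralizer ({d} : Set G)) →* Q} {z : ↥(Subgroup.centralizer ({d} : Set G))}

/-- Nine members in the centralizer of `d` with the relations of the presentation. -/
structure Nine (d : G) (y : ℕ → G) : Prop where
  member : ∀ g < 9, IsConj d (y g) ∧ Commute (y g) d ∧ y g ≠ d
  sq : ∀ g, y g * y g = 1
  adj : ∀ r < 9, ∀ s < 9, (Commute (y r) (y s) ↔ adjB r s = false) ∧ (r ≠ s → y r ≠ y s)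
  pairs : ∀ r ∈ Fi22Pres.numbering.pairs, wordVal y r = 1
  extra0 : wordVal y (Fi22Pres.extra.getD 0 []) = 1
  extra1 : wordVal y (Fi22Pres.extra.getD 1 []) = 1
  right : wordVal y wordRight = d
  gen : Subgroup.centralizer ({d} : Set G) ≤ Subgroup.closure (y '' {g | g < 9})

theorem exists_nine' (H : Hyp d E π z) (F : Frame E π z) : ∃ y, Nine d y := by
  obtain ⟨p, y, hy, hadj, hsq, hpairs, h0, h1, hW, htop⟩ := exists_nine H F
  have hd := H.hd
  have hval : ∀ w : List ℕ, wordVal (fun g => (y g : G)) w =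
      ((wordVal y w : ↥(Subgroup.centralizer ({d} : Set G))) : G) := fun w =>
    (map_wordVal (Subgroup.centralizer ({d} : Set G)).subtype y w).symm
  refine ⟨fun g => (y g : G), ⟨fun g hg => ⟨?_, ?_, ?_⟩, fun g => congrArg Subtype.val (hsq g),
    fun r hr s hs => ⟨?_, ?_⟩, fun r hr => ?_, ?_, ?_, ?_, ?_⟩⟩
  · exact (F.mem_iff _).2 (Or.inr ⟨p g, (hy g hg).symm⟩)
  · exact Subgroup.mem_centralizer_singleton_iff.1 (y g).2
  · intro e
    refine (Frame.lift_ne H F (p g)).1 (Subtype.ext ?_)
    rw [← hy g hg, H.z_val]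
    exact e
  · rw [← (hadj r hr s hs).1, ← Frame.lift_commute H F, ← hy r hr, ← hy s hs]
    exact ⟨fun h => Subtype.ext h.eq, fun h => congrArg Subtype.val h.eq⟩
  · intro hne e
    exact (hadj r hr s hs).2 hne (Frame.lift_inj H F (by rw [← hy r hr, ← hy s hs]; exact Subtype.ext e))
  · rw [hval, hpairs r hr]; rfl
  · rw [hval, h0]; rfl
  · rw [hval, h1]; rfl
  · rw [hval, hW, H.z_val]
  · have hS : Subgroup.closure (y '' {g | g < 9}) = ⊤ := by
      rw [eq_top_iff]
      intro c _
      obtain ⟨b, hb, e⟩ := (htop ▸ Subgroup.mem_top (π c) :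
        π c ∈ (Subgroup.closure (y '' {g | g < 9})).map π)
      have hz : z ∈ Subgroup.closure (y '' {g | g < 9}) := by
        rw [← hW]
        refine Subgroup.closure_mono (Set.image_mono fun g (hg : g ∈ wordRight) =>
          (show ∀ g ∈ wordRight, g < 9 by decide +kernel) g hg) ?_
        exact wordVal_mem y (S := wordRight) fun g hg =>
          ⟨hg, (show ∀ g ∈ wordRight, g ≠ eps by decide +kernel) g hg⟩
      rcases hd.eq_or e.symm with h | h <;> rw [h]
      exacts [hb, mul_mem hb hz]
    have key := congrArg (Subgroup.map (Subgroup.centralizer ({d} : Set G)).subtype) hS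
    rw [MonoidHom.map_closure, ← MonoidHom.range_eq_map, Subgroup.range_subtype, ← Set.image_comp] at key
    exact key.ge

/-- The tenth member. -/
theorem exists_tenth (H : Hyp d E π z) (F : Frame E π z) {y : ℕ → G} (N : Nine d y) :
    ∃ w : G, IsConj d w ∧ (∀ g < 9, g ≠ 6 → Commute (y g) w) ∧ (y 6 * w) ^ 3 = 1 := by
  have hT := F.T
  -- the view from the first
  obtain ⟨k, hk⟩ := isConj_iff.1 (N.member 0 (by norm_num)).1
  have hseen : ∀ g, ∃ q, 2 ≤ g → g < 9 → F.pt k q = y g := fun g => by
    by_cases hg : 2 ≤ g ∧ g < 9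
    · obtain ⟨q, hq⟩ := Frame.exists_pt H F (k := k) (N.member g hg.2).1
        (by rw [hk]; exact (((N.adj g hg.2 0 (by norm_num)).1).2 (by
          revert hg; rintro ⟨h1, h2⟩; interval_cases g <;> decide)))
        (by rw [hk]; exact (N.adj g hg.2 0 (by norm_num)).2 (by omega))
      exact ⟨q, fun _ _ => hq⟩
    · exact ⟨⟨0, by norm_num⟩, fun h1 h2 => absurd ⟨h1, h2⟩ hg⟩
  choose q hq using hseen
  obtain ⟨t, ht⟩ := Frame.exists_pt H F (k := k) (IsConj.refl d)
    (by rw [hk]; exact (N.member 0 (by norm_num)).2.1.symm) (by rw [hk]; exact (N.member 0 (by norm_num)).2.2.symm)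
  have cm : ∀ r, 2 ≤ r → r < 9 → ∀ s, 2 ≤ s → s < 9 → (Cm F.T (q r) (q s) ↔ adjB r s = false) :=
    fun r h1 h2 s h3 h4 => by
      rw [Cm, ← Frame.pt_commute H F (k := k), hq r h1 h2, hq s h3 h4, (N.adj r h2 s h4).1]
  have cmt : ∀ r, 2 ≤ r → r < 9 → Cm F.T (q r) t := fun r h1 h2 => by
    rw [Cm, ← Frame.pt_commute H F (k := k), hq r h1 h2, ht]
    exact (N.member r h2).2.1
  have qne : ∀ r, 2 ≤ r → r < 9 → ∀ s, 2 ≤ s → s < 9 → r ≠ s → q r ≠ q s := fun r h1 h2 s h3 h4 hne e =>
    (N.adj r h2 s h4).2 hne (by rw [← hq r h1 h2, ← hq s h3 h4, e])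
  have yes : ∀ r s, 2 ≤ r → r < 9 → 2 ≤ s → s < 9 → adjB r s = false → Cm F.T (q r) (q s) :=
    fun r s h1 h2 h3 h4 h => (cm r h1 h2 s h3 h4).2 h
  have no : ∀ r s, 2 ≤ r → r < 9 → 2 ≤ s → s < 9 → adjB r s = true → ¬ Cm F.T (q r) (q s) :=
    fun r s h1 h2 h3 h4 h e => by rw [(cm r h1 h2 s h3 h4).1 e] at h; exact Bool.noConfusion h
  have hW : wordVal (fun g => F.T.A.delta (q g)) (List.replicate 9 [8, 7, 6, 5, 4, 3, 2]).flatten =
      F.T.A.delta t := by
    have e : wordVal (fun g => F.L.Y (q g)) wordRight = F.L.Y t := by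
      refine view_inj k ?_
      rw [map_wordVal, show view d k (F.L.Y t) = d from ht]
      refine Eq.trans (val_congr fun g hg => ?_) N.right
      obtain ⟨h1, h2⟩ := (show ∀ g ∈ wordRight, 2 ≤ g ∧ g < 9 by decide +kernel) g hg
      exact hq g h1 h2
    have := congrArg π e
    rw [map_wordVal, F.L.proj] at this
    rw [← this]
    exact congrArg (fun f => wordVal f wordRight) (funext fun g => (F.L.proj _).symm)
  obtain ⟨w, w2, w3, w4, w5, w6, w7, w8, wt⟩ := fork_fact F.T (c := q 2) (d := q 3) (e := q 4) (f := q 5)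
    (g := q 6) (h := q 7) (i := q 8) (t := t)
    ⟨no 2 3 (by norm_num) (by norm_num) (by norm_num) (by norm_num) (by decide),
      no 3 4 (by norm_num) (by norm_num) (by norm_num) (by norm_num) (by decide),
      no 4 5 (by norm_num) (by norm_num) (by norm_num) (by norm_num) (by decide),
      no 5 6 (by norm_num) (by norm_num) (by norm_num) (by norm_num) (by decide),
      yes 2 4 (by norm_num) (by norm_num) (by norm_num) (by norm_num) (by decide),
      yes 2 5 (by norm_num) (by norm_num) (by norm_num) (by norm_num) (by decide),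
      yes 2 6 (by norm_num) (by norm_num) (by norm_num) (by norm_num) (by decide),
      yes 3 5 (by norm_num) (by norm_num) (by norm_num) (by norm_num) (by decide),
      yes 3 6 (by norm_num) (by norm_num) (by norm_num) (by norm_num) (by decide),
      yes 4 6 (by norm_num) (by norm_num) (by norm_num) (by norm_num) (by decide)⟩
    ⟨qne 2 (by norm_num) (by norm_num) 4 (by norm_num) (by norm_num) (by norm_num),
      qne 2 (by norm_num) (by norm_num) 5 (by norm_num) (by norm_num) (by norm_num),
      qne 2 (by norm_num) (by norm_num) 6 (by norm_num) (by norm_num) (by norm_num),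
      qne 3 (by norm_num) (by norm_num) 5 (by norm_num) (by norm_num) (by norm_num),
      qne 3 (by norm_num) (by norm_num) 6 (by norm_num) (by norm_num) (by norm_num),
      qne 4 (by norm_num) (by norm_num) 6 (by norm_num) (by norm_num) (by norm_num)⟩
    ⟨yes 2 7 (by norm_num) (by norm_num) (by norm_num) (by norm_num) (by decide),
      no 3 7 (by norm_num) (by norm_num) (by norm_num) (by norm_num) (by decide),
      yes 4 7 (by norm_num) (by norm_num) (by norm_num) (by norm_num) (by decide),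
      yes 5 7 (by norm_num) (by norm_num) (by norm_num) (by norm_num) (by decide),
      yes 6 7 (by norm_num) (by norm_num) (by norm_num) (by norm_num) (by decide)⟩
    ⟨yes 2 8 (by norm_num) (by norm_num) (by norm_num) (by norm_num) (by decide),
      yes 3 8 (by norm_num) (by norm_num) (by norm_num) (by norm_num) (by decide),
      yes 4 8 (by norm_num) (by norm_num) (by norm_num) (by norm_num) (by decide),
      yes 5 8 (by norm_num) (by norm_num) (by norm_num) (by norm_num) (by decide),
      yes 6 8 (by norm_num) (by norm_num) (by norm_num) (by norm_num) (by decide),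
      no 7 8 (by norm_num) (by norm_num) (by norm_num) (by norm_num) (by decide)⟩
    ⟨cmt 2 (by norm_num) (by norm_num), cmt 3 (by norm_num) (by norm_num), cmt 4 (by norm_num) (by norm_num),
      cmt 5 (by norm_num) (by norm_num), cmt 6 (by norm_num) (by norm_num), cmt 7 (by norm_num) (by norm_num),
      cmt 8 (by norm_num) (by norm_num)⟩
    (fun g => F.T.A.delta (q g)) ⟨rfl, rfl, rfl, rfl, rfl, rfl, rfl⟩ hW
  refine ⟨F.pt k w, Frame.pt_member H F k w, ?_, ?_⟩
  rotate_left
  · rw [← hq 6 (by norm_num) (by norm_num)]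
    exact Frame.pt_braid H F fun e => w6 ((Frame.pt_commute H F).1 e)
  have far : ∀ g, 2 ≤ g → g < 9 → g ≠ 6 → Commute (y g) (F.pt k w) := fun g h1 h2 h6 => by
    rw [← hq g h1 h2, Frame.pt_commute H F]
    interval_cases g
    exacts [w2, w3, w4, w5, absurd rfl h6, w7, w8]
  have w0 : Commute (y 0) (F.pt k w) := by rw [← hk]; exact (Frame.pt_commute_base H F k w).symm
  have hwd : ¬ Commute d (F.pt k w) := fun e => wt (by rw [Cm, ← Frame.pt_commute H F (k := k), ht]; exact e)
  -- the view from the last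
  obtain ⟨k', hk'⟩ := isConj_iff.1 (N.member 8 (by norm_num)).1
  have hseen' : ∀ g, ∃ r, g < 7 → F.pt k' r = y g := fun g => by
    by_cases hg : g < 7
    · obtain ⟨r, hr⟩ := Frame.exists_pt H F (k := k') (N.member g (by omega)).1
        (by rw [hk']; exact ((N.adj g (by omega) 8 (by norm_num)).1).2 (by interval_cases g <;> decide))
        (by rw [hk']; exact (N.adj g (by omega) 8 (by norm_num)).2 (by omega))
      exact ⟨r, fun _ => hr⟩
    · exact ⟨⟨0, by norm_num⟩, fun h => absurd h hg⟩
  choose r hr using hseen'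
  obtain ⟨t', ht'⟩ := Frame.exists_pt H F (k := k') (IsConj.refl d)
    (by rw [hk']; exact (N.member 8 (by norm_num)).2.1.symm) (by rw [hk']; exact (N.member 8 (by norm_num)).2.2.symm)
  obtain ⟨w', hw'⟩ := Frame.exists_pt H F (k := k') (Frame.pt_member H F k w)
    (by rw [hk']; exact (far 8 (by norm_num) (by norm_num) (by norm_num)).symm)
    (by rw [hk']; exact fun e => hwd (e ▸ (N.member 8 (by norm_num)).2.1.symm))
  have cm' : ∀ a b, a < 7 → b < 7 → adjB a b = false → Cm F.T (r a) (r b) := fun a b h1 h2 h => by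
    rw [Cm, ← Frame.pt_commute H F (k := k'), hr a h1, hr b h2]
    exact ((N.adj a (by omega) b (by omega)).1).2 h
  have ncm' : ∀ a b, a < 7 → b < 7 → adjB a b = true → ¬ Cm F.T (r a) (r b) := fun a b h1 h2 h e => by
    rw [Cm, ← Frame.pt_commute H F (k := k'), hr a h1, hr b h2, (N.adj a (by omega) b (by omega)).1] at e
    rw [e] at h
    exact Bool.noConfusion h
  have rne : ∀ a b, a < 7 → b < 7 → a ≠ b → r a ≠ r b := fun a b h1 h2 hne e =>
    (N.adj a (by omega) b (by omega)).2 hne (by rw [← hr a h1, ← hr b h2, e])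
  have cmt' : ∀ a, a < 7 → Cm F.T (r a) t' := fun a h1 => by
    rw [Cm, ← Frame.pt_commute H F (k := k'), hr a h1, ht']
    exact (N.member a (by omega)).2.1
  have cmw : ∀ a, a < 7 → Commute (y a) (F.pt k w) → Cm F.T (r a) w' := fun a h1 h => by
    rw [Cm, ← Frame.pt_commute H F (k := k'), hr a h1, hw']
    exact h
  have h1w : Cm F.T (r 1) w' := chain_fact F.T (a := r 0) (b := r 1) (c := r 2) (d := r 3) (e := r 4) (f := r 5)
    (g := r 6) (t := t') (w := w')
    ⟨ncm' 2 3 (by norm_num) (by norm_num) (by decide), ncm' 3 4 (by norm_num) (by norm_num) (by decide),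
      ncm' 4 5 (by norm_num) (by norm_num) (by decide), ncm' 5 6 (by norm_num) (by norm_num) (by decide),
      cm' 2 4 (by norm_num) (by norm_num) (by decide), cm' 2 5 (by norm_num) (by norm_num) (by decide),
      cm' 2 6 (by norm_num) (by norm_num) (by decide), cm' 3 5 (by norm_num) (by norm_num) (by decide),
      cm' 3 6 (by norm_num) (by norm_num) (by decide), cm' 4 6 (by norm_num) (by norm_num) (by decide)⟩
    ⟨rne 2 4 (by norm_num) (by norm_num) (by norm_num), rne 2 5 (by norm_num) (by norm_num) (by norm_num),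
      rne 2 6 (by norm_num) (by norm_num) (by norm_num), rne 3 5 (by norm_num) (by norm_num) (by norm_num),
      rne 3 6 (by norm_num) (by norm_num) (by norm_num), rne 4 6 (by norm_num) (by norm_num) (by norm_num)⟩
    ⟨cm' 2 0 (by norm_num) (by norm_num) (by decide), cm' 3 0 (by norm_num) (by norm_num) (by decide),
      cm' 4 0 (by norm_num) (by norm_num) (by decide), cm' 5 0 (by norm_num) (by norm_num) (by decide),
      cm' 6 0 (by norm_num) (by norm_num) (by decide)⟩
    ⟨ncm' 2 1 (by norm_num) (by norm_num) (by decide), cm' 3 1 (by norm_num) (by norm_num) (by decide),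
      cm' 4 1 (by norm_num) (by norm_num) (by decide), cm' 5 1 (by norm_num) (by norm_num) (by decide),
      cm' 6 1 (by norm_num) (by norm_num) (by decide), ncm' 1 0 (by norm_num) (by norm_num) (by decide)⟩
    ⟨cmt' 2 (by norm_num), cmt' 3 (by norm_num), cmt' 4 (by norm_num), cmt' 5 (by norm_num), cmt' 6 (by norm_num),
      cmt' 0 (by norm_num), cmt' 1 (by norm_num)⟩
    ⟨cmw 2 (by norm_num) (far 2 (by norm_num) (by norm_num) (by norm_num)),
      cmw 3 (by norm_num) (far 3 (by norm_num) (by norm_num) (by norm_num)),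
      cmw 4 (by norm_num) (far 4 (by norm_num) (by norm_num) (by norm_num)),
      cmw 5 (by norm_num) (far 5 (by norm_num) (by norm_num) (by norm_num)),
      fun e => w6 (by
        rw [Cm, ← Frame.pt_commute H F (k := k), hq 6 (by norm_num) (by norm_num)]
        rw [Cm, ← Frame.pt_commute H F (k := k'), hr 6 (by norm_num), hw'] at e
        exact e),
      cmw 0 (by norm_num) w0,
      fun e => hwd (by rw [Cm, ← Frame.pt_commute H F (k := k'), ht', hw'] at e; exact e)⟩
  intro g hg h6
  by_cases h2 : 2 ≤ g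
  · exact far g h2 hg h6
  interval_cases g
  · exact w0
  · rw [← hr 1 (by norm_num), ← hw', Frame.pt_commute H F]
    exact h1w

/-- The relators of Fi23 in terms of those of Fi22. -/
theorem pairs23 : ∀ r ∈ Fi23Pres.numbering.pairs, r ∈ Fi22Pres.numbering.pairs.map (fun r => r.map to23) ∨
    r = [7, 7] ∨ r = (List.replicate 3 [7, 6]).flatten ∨ r = (List.replicate 3 [6, 7]).flatten ∨
    ∃ g ∈ [0, 1, 2, 3, 4, 5, 8, 9],
      r = (List.replicate 2 [g, 7]).flatten ∨ r = (List.replicate 2 [7, g]).flatten := by decide +kernel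

theorem extra23 : Fi23Pres.extra =
    [(Fi22Pres.extra.getD 0 []).map to23, (Fi22Pres.extra.getD 1 []).map to23] := by decide +kernel

theorem exists_emb (H : Hyp d E π z) : Nonempty (Emb d) := by
  classical
  obtain ⟨F⟩ := exists_frame H
  obtain ⟨y, N⟩ := exists_nine' H F
  obtain ⟨w, hw, hcomm, hbraid⟩ := exists_tenth H F N
  obtain ⟨Y, hYdef⟩ : ∃ Y : ℕ → G,
      Y = fun n => if n = 7 then w else if n < 7 then y n else y (n - 1) := ⟨_, rfl⟩
  have hY : ∀ g < 9, Y (to23 g) = y g := by
    intro g hg; rw [hYdef]; interval_cases g <;> simp [to23]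
  have hY7 : Y 7 = w := by rw [hYdef]; simp
  have hw2 := (H.conj_sq hw).1
  have hYsq : ∀ n, Y n * Y n = 1 := fun n => by
    rw [hYdef]; dsimp only; split_ifs; exacts [hw2, N.sq _, N.sq _]
  have hmap : ∀ r : List ℕ, (∀ g ∈ r, g < 9) → wordVal Y (r.map to23) = wordVal y r := fun r hr => by
    rw [← val_map Y to23 (by decide) hr]
    exact val_congr fun g hg => hY g (hr g hg)
  have hlt : ∀ r ∈ Fi22Pres.numbering.pairs ++ Fi22Pres.extra, ∀ g ∈ r, g < 9 := by decide +kernel
  have hm : ∀ i < 2, Fi22Pres.extra.getD i [] ∈ Fi22Pres.extra := by decide +kernel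
  have rep : ∀ a b m, a < 10 → b < 10 → wordVal Y (List.replicate m [b, a]).flatten = (Y a * Y b) ^ m :=
    fun a b m ha hb => wordVal_replicate Y a b (by simp only [eps]; omega) (by simp only [eps]; omega) m
  have hinv : ∀ n, (Y n)⁻¹ = Y n := fun n => inv_eq_of_mul_eq_one_left (hYsq n)
  have hrel : ∀ r ∈ Fi23Pres.numbering.pairs ++ Fi23Pres.extra, wordVal Y r = 1 := by
    intro r hr
    rcases List.mem_append.1 hr with hr | hr
    · rcases pairs23 r hr with h | rfl | rfl | rfl | ⟨g, hg, h⟩
      · obtain ⟨s, hs, rfl⟩ := List.mem_map.1 h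
        rw [hmap s (hlt s (List.mem_append_left _ hs)), N.pairs s hs]
      · rw [show [7, 7] = (List.replicate 1 [7, 7]).flatten from rfl, rep 7 7 1 (by norm_num) (by norm_num),
          pow_one, hYsq]
      · rw [rep 6 7 3 (by norm_num) (by norm_num), show Y 6 = y 6 from hY 6 (by norm_num), hY7, hbraid]
      · rw [rep 7 6 3 (by norm_num) (by norm_num), ← inv_inv ((Y 7 * Y 6) ^ 3), ← inv_pow, mul_inv_rev, hinv,
          hinv, show Y 6 = y 6 from hY 6 (by norm_num), hY7, hbraid, inv_one]
      · obtain ⟨g', hg', hg6, rfl⟩ : ∃ g' < 9, g' ≠ 6 ∧ to23 g' = g :=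
          (show ∀ g ∈ [0, 1, 2, 3, 4, 5, 8, 9], ∃ g' < 9, g' ≠ 6 ∧ to23 g' = g by decide) g hg
        have hc : Commute (Y (to23 g')) (Y 7) := by rw [hY g' hg', hY7]; exact hcomm g' hg' hg6
        have hg10 : to23 g' < 10 := (show ∀ a < 9, to23 a < 10 by decide) g' hg'
        rcases h with rfl | rfl
        · rw [rep 7 _ 2 (by norm_num) hg10, hc.symm.mul_pow, pow_two, pow_two, hYsq, hYsq, one_mul]
        · rw [rep _ 7 2 hg10 (by norm_num), hc.mul_pow, pow_two, pow_two, hYsq, hYsq, one_mul]
    · rw [extra23, List.mem_cons, List.mem_singleton] at hr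
      rcases hr with rfl | rfl
      · rw [hmap _ (hlt _ (List.mem_append_right _ (hm 0 (by norm_num)))), N.extra0]
      · rw [hmap _ (hlt _ (List.mem_append_right _ (hm 1 (by norm_num)))), N.extra1]
  have hlift := Fi23Pres.numbering.lift_eq_one (by decide) Y (Fi23Pres.map_extra Y hYsq) hrel
  let Φ : Cfsg.Spor.Fi23 →* G := PresentedGroup.toGroup hlift
  have hΦ : ∀ n < 10, Φ (x23 n) = Y n := fun n hn => by
    rw [x23, Numbering.gens, if_pos (show n < Fi23Pres.numbering.k from hn)]
    show PresentedGroup.toGroup hlift (PresentedGroup.of (Fi23Pres.numbering.letter n)) = _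
    rw [PresentedGroup.toGroup.of, Fi23Pres.numbering.num_letter n hn]
  have hinj : Function.Injective Φ := by
    have := fi23_facts.2.1
    rw [← MonoidHom.ker_eq_bot_iff]
    refine Φ.normal_ker.eq_bot_or_eq_top.resolve_right fun h => ?_
    have h0 : Φ (x23 0) = 1 := Φ.mem_ker.1 (h ▸ Subgroup.mem_top _)
    rw [hΦ 0 (by norm_num), show Y 0 = y 0 from hY 0 (by norm_num)] at h0
    exact (H.conj_sq (N.member 0 (by norm_num)).1).2 h0
  refine ⟨⟨Φ, hinj, ?_, ?_, x23 0, gen_conj23, ?_⟩⟩
  · have hW : wordVal x23 (wordRight.map to23) = delta23 := by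
      have hsw := swap_rels
      simp only [Bool.and_eq_true, isOne, isCentre] at hsw
      obtain ⟨⟨⟨⟨⟨⟨-, -⟩, -⟩, sW⟩, -⟩, -⟩, -⟩ := hsw
      exact same23 sW
    rw [← hW, map_wordVal, val_congr (a := fun n => Φ (x23 n)) (b := Y)
      fun n hn => hΦ n ((show ∀ n ∈ wordRight.map to23, n < 10 by decide +kernel) n hn),
      hmap wordRight (by decide +kernel), N.right]
  · refine N.gen.trans ((Subgroup.closure_le _).2 ?_)
    rintro _ ⟨g, hg, rfl⟩
    exact ⟨x23 (to23 g), by rw [hΦ _ ((show ∀ a < 9, to23 a < 10 by decide) g hg), hY g hg]⟩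
  · rw [hΦ 0 (by norm_num), show Y 0 = y 0 from hY 0 (by norm_num)]
    exact (N.member 0 (by norm_num)).2

end Cfsg.Lib.Fischer.Cent23
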