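import Cfsg.Agent.Lib.Fischer.Cent23.Base

/-!
# Conjugates of `d` seen from one of them

The members other than `k * d * k⁻¹` that commute with it are the images of the lifts of transpositions.
-/

set_option autoImplicit false
set_option linter.unusedSectionVars false

namespace Cfsg.Lib.Fischer.Cent23

open Cfsg Cfsg.Lib.CosetEnum Cfsg.Lib.CosetEnum.Fi22Two Cfsg.Lib.Fischer

variable {G : Type*} [Group G] [Finite G] {d : G} {Q : Type*} [Group Q] [Finite Q] {E : Set Q}
  {π : ↥(Subgroup.centralizer ({d} : Set G)) →* Q} {z : ↥(Subgroup.centralizer ({d} : Set G))}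

/-- The centralizer of `d` moved to that of `k * d * k⁻¹`. -/
def view (d k : G) : ↥(Subgroup.centralizer ({d} : Set G)) →* G :=
  (MulAut.conj k).toMonoidHom.comp (Subgroup.centralizer ({d} : Set G)).subtype

theorem view_apply (k : G) (c : ↥(Subgroup.centralizer ({d} : Set G))) : view d k c = k * (c : G) * k⁻¹ := rfl

theorem view_inj (k : G) : Function.Injective (view d k) :=
  (MulAut.conj k).injective.comp Subtype.val_injective

theorem view_z (H : Hyp d E π z) (k : G) : view d k z = k * d * k⁻¹ := by rw [view_apply, H.z_val]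

/-- An element commuting with the centre of the view comes from the centralizer of `d`. -/
theorem exists_view {k x : G} (h : Commute x (k * d * k⁻¹)) : ∃ c, view d k c = x := by
  refine ⟨⟨k⁻¹ * x * k, Subgroup.mem_centralizer_singleton_iff.2 ?_⟩, by rw [view_apply]; group⟩
  calc k⁻¹ * x * k * d = k⁻¹ * (x * (k * d * k⁻¹)) * k := by group
    _ = d * (k⁻¹ * x * k) := by rw [h.eq]; group

theorem view_commute (H : Hyp d E π z) (k : G) (c : ↥(Subgroup.centralizer ({d} : Set G))) :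
    Commute (view d k c) (k * d * k⁻¹) := by
  rw [← view_z H k]
  exact ((H.hd.central c).symm).map (view d k)

namespace Frame

variable (H : Hyp d E π z) (F : Frame E π z)
include H

theorem lift_inj {p q : Fin 3510} (h : F.L.Y p = F.L.Y q) : p = q :=
  F.T.A.delta_injective (by rw [← F.L.proj, ← F.L.proj, h])

theorem delta_mem (p : Fin 3510) : F.T.A.delta p ∈ E := by
  have h : F.T.A.delta p ∈ conjugatesOf F.T.A.d := (F.T.A.isConj_iff_exists _).2 ⟨p, rfl⟩
  rwa [F.T.class_eq] at h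

theorem lift_ne (p : Fin 3510) : F.L.Y p ≠ z ∧ F.L.Y p ≠ 1 := by
  have h1 : F.T.A.delta p ≠ 1 := fun e => by
    have := H.cls.1.1 _ (delta_mem H F p)
    rw [e, orderOf_one] at this
    omega
  exact ⟨fun e => h1 (by rw [← F.L.proj, e, H.hd.proj_z]), fun e => h1 (by rw [← F.L.proj, e, map_one])⟩

theorem lift_commute {p q : Fin 3510} :
    Commute (F.L.Y p) (F.L.Y q) ↔ Commute (F.T.A.delta p) (F.T.A.delta q) := by
  refine ⟨fun h => by rw [← F.L.proj, ← F.L.proj]; exact h.map π, fun h => ?_⟩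
  have e := F.L.conj p q
  rw [(F.T.A.commute_delta_iff _ q).1 h.eq] at e
  show F.L.Y p * F.L.Y q = F.L.Y q * F.L.Y p
  calc F.L.Y p * F.L.Y q = F.L.Y p * F.L.Y q * (F.L.Y p * F.L.Y p) := by rw [F.L.sq, mul_one]
    _ = F.L.Y q * F.L.Y p := by rw [← mul_assoc, e]

theorem lift_braid {p q : Fin 3510} (h : ¬ Commute (F.T.A.delta p) (F.T.A.delta q)) :
    (F.L.Y p * F.L.Y q) ^ 3 = 1 := by
  have h2 : ∀ r, F.T.A.delta r * F.T.A.delta r = 1 := fun r => by
    rw [← F.L.proj, ← map_mul, F.L.sq, map_one]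
  have h3 : (F.T.A.delta p * F.T.A.delta q) ^ 3 = 1 := by
    refine (H.cls.1.2 _ (delta_mem H F p) _ (delta_mem H F q)).resolve_left fun e => h ?_
    rw [pow_two] at e
    calc F.T.A.delta p * F.T.A.delta q = (F.T.A.delta p * F.T.A.delta q)⁻¹ := eq_inv_of_mul_eq_one_left e
      _ = F.T.A.delta q * F.T.A.delta p := by
        rw [mul_inv_rev, inv_eq_of_mul_eq_one_left (h2 p), inv_eq_of_mul_eq_one_left (h2 q)]
  have hb : F.T.A.delta p * F.T.A.delta q * F.T.A.delta p = F.T.A.delta q * F.T.A.delta p * F.T.A.delta q := by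
    have e : F.T.A.delta p * F.T.A.delta q * F.T.A.delta p *
        (F.T.A.delta q * F.T.A.delta p * F.T.A.delta q) = 1 := by rw [← h3, pow_succ, pow_two]; group
    rw [eq_inv_of_mul_eq_one_left e]
    simp only [mul_inv_rev, inv_eq_of_mul_eq_one_left (h2 p), inv_eq_of_mul_eq_one_left (h2 q), mul_assoc]
  have hpq : F.T.A.f (F.T.A.delta p) q = F.T.A.f (F.T.A.delta q) p := by
    refine F.T.A.delta_injective ?_
    rw [F.T.A.delta_apply, F.T.A.delta_apply, inv_eq_of_mul_eq_one_left (h2 p), inv_eq_of_mul_eq_one_left (h2 q)]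
    exact hb
  have e : F.L.Y p * F.L.Y q * F.L.Y p = F.L.Y q * F.L.Y p * F.L.Y q := by rw [F.L.conj, F.L.conj, hpq]
  calc (F.L.Y p * F.L.Y q) ^ 3 = F.L.Y p * F.L.Y q * F.L.Y p * (F.L.Y q * F.L.Y p * F.L.Y q) := by
        rw [pow_succ, pow_two]; group
    _ = F.L.Y p * F.L.Y q * F.L.Y p * (F.L.Y p * F.L.Y q * F.L.Y p) := by rw [e]
    _ = F.L.Y p * F.L.Y q * (F.L.Y p * F.L.Y p) * F.L.Y q * F.L.Y p := by group
    _ = 1 := by rw [F.L.sq, mul_one, mul_assoc (F.L.Y p) (F.L.Y q) (F.L.Y q), F.L.sq, mul_one, F.L.sq]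

/-- The member of a point seen from `k * d * k⁻¹`. -/
def pt (k : G) (p : Fin 3510) : G := view d k (F.L.Y p)

theorem pt_commute_base (k : G) (p : Fin 3510) : Commute (F.pt k p) (k * d * k⁻¹) := view_commute H k _

theorem pt_ne_base (k : G) (p : Fin 3510) : F.pt k p ≠ k * d * k⁻¹ := fun e =>
  (lift_ne H F p).1 (view_inj k (e.trans (view_z H k).symm))

theorem pt_member (k : G) (p : Fin 3510) : IsConj d (F.pt k p) :=
  ((F.mem_iff _).2 (Or.inr ⟨p, rfl⟩)).trans (isConj_iff.2 ⟨k, rfl⟩)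

theorem pt_commute {k : G} {p q : Fin 3510} :
    Commute (F.pt k p) (F.pt k q) ↔ Commute (F.T.A.delta p) (F.T.A.delta q) :=
  ⟨fun h => (lift_commute H F).1 (view_inj k (by rw [map_mul, map_mul]; exact h.eq)),
    fun h => ((lift_commute H F).2 h).map (view d k)⟩

theorem pt_eq_iff {k : G} {p q : Fin 3510} : F.pt k p = F.pt k q ↔ p = q :=
  ⟨fun h => lift_inj H F (view_inj k h), fun h => h ▸ rfl⟩

theorem pt_braid {k : G} {p q : Fin 3510} (h : ¬ Commute (F.pt k p) (F.pt k q)) :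
    (F.pt k p * F.pt k q) ^ 3 = 1 := by
  rw [pt, pt, ← map_mul, ← map_pow, lift_braid H F fun e => h ((pt_commute H F).2 e), map_one]

/-- A member commuting with `k * d * k⁻¹` and different from it has a point. -/
theorem exists_pt {k x : G} (hx : IsConj d x) (hc : Commute x (k * d * k⁻¹)) (hne : x ≠ k * d * k⁻¹) :
    ∃ p, F.pt k p = x := by
  obtain ⟨c, hcx⟩ := exists_view hc
  have hcd : IsConj d (c : G) := hx.trans (isConj_iff.2 ⟨k⁻¹, by rw [← hcx, view_apply]; group⟩)
  rcases (F.mem_iff c).1 hcd with rfl | ⟨p, rfl⟩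
  · exact absurd (hcx.symm.trans (view_z H k)) hne
  · exact ⟨p, hcx⟩

/-- The member and its base are conjugate to `d` and any lift. -/
theorem lift_trans (p q : Fin 3510) :
    ∃ c : ↥(Subgroup.centralizer ({d} : Set G)), c * F.L.Y p * c⁻¹ = F.L.Y q := by
  obtain ⟨g, hg⟩ := F.T.A.trans q
  obtain ⟨g₀, hg₀⟩ := F.T.A.trans p
  obtain ⟨c, hc⟩ := H.hd.surj (g * g₀⁻¹)
  refine ⟨c, ?_⟩
  rw [equivariant F.T F.L H.hd, hc, map_mul, map_inv, Equiv.Perm.mul_apply, ← hg₀, Equiv.Perm.inv_def,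
    Equiv.symm_apply_apply, hg]

/-- Two distinct commuting members are conjugate to `d` with a given lift. -/
theorem pair_trans {a b : G} (ha : IsConj d a) (hb : IsConj d b) (hab : Commute a b) (hne : a ≠ b)
    (p : Fin 3510) : ∃ k : G, k * d * k⁻¹ = a ∧ k * (F.L.Y p : G) * k⁻¹ = b := by
  obtain ⟨k, rfl⟩ := isConj_iff.1 ha
  obtain ⟨q, rfl⟩ := exists_pt H F hb hab.symm (Ne.symm hne)
  obtain ⟨c, hc⟩ := lift_trans H F p q
  refine ⟨k * (c : G), ?_, ?_⟩
  · have := Subgroup.mem_centralizer_singleton_iff.1 c.2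
    calc k * (c : G) * d * (k * (c : G))⁻¹ = k * ((c : G) * d) * (c : G)⁻¹ * k⁻¹ := by group
      _ = k * d * k⁻¹ := by rw [this]; group
  · rw [pt, view_apply, ← hc]
    push_cast
    group

end Frame

end Cfsg.Lib.Fischer.Cent23
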