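import Cfsg.Agent.Lib.Fischer.Cent23.Embed

/-!
# The members in the embedded Fi23

They form one class there, contain every member commuting with one of them and every member in the subgroup.
-/

set_option autoImplicit false
set_option linter.unusedSectionVars false

namespace Cfsg.Lib.Fischer.Cent23

open Cfsg Cfsg.Spor Cfsg.Lib.CosetEnum Cfsg.Lib.CosetEnum.Fi22Two Cfsg.Lib.Fischer

variable {G : Type*} [Group G] [Finite G] {d : G} {Q : Type*} [Group Q] [Finite Q] {E : Set Q}
  {π : ↥(Subgroup.centralizer ({d} : Set G)) →* Q} {z : ↥(Subgroup.centralizer ({d} : Set G))}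

namespace Emb

variable (M : Emb d)

/-- A member in the subgroup, as a conjugate under it. -/
def Mem (x : G) : Prop := ∃ g ∈ M.F.range, g * d * g⁻¹ = x

theorem mem_d : M.Mem d := ⟨1, one_mem _, by group⟩

theorem d_range : d ∈ M.F.range := ⟨delta23, M.delta⟩

variable {M}

theorem Mem.isConj {x : G} (h : M.Mem x) : IsConj d x := by
  obtain ⟨g, -, rfl⟩ := h
  exact isConj_iff.2 ⟨g, rfl⟩

theorem Mem.range {x : G} (h : M.Mem x) : x ∈ M.F.range := by
  obtain ⟨g, hg, rfl⟩ := h
  exact mul_mem (mul_mem hg M.d_range) (inv_mem hg)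

theorem Mem.conj {x g : G} (h : M.Mem x) (hg : g ∈ M.F.range) : M.Mem (g * x * g⁻¹) := by
  obtain ⟨k, hk, rfl⟩ := h
  exact ⟨g * k, mul_mem hg hk, by group⟩

/-- What maps `d` to a member lies in the subgroup. -/
theorem Mem.range_of_conj {x k : G} (h : M.Mem x) (hk : k * d * k⁻¹ = x) : k ∈ M.F.range := by
  obtain ⟨g, hg, e⟩ := h
  have hc : g⁻¹ * k ∈ Subgroup.centralizer ({d} : Set G) := by
    rw [Subgroup.mem_centralizer_singleton_iff]
    calc g⁻¹ * k * d = g⁻¹ * (k * d * k⁻¹) * k := by group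
      _ = g⁻¹ * (g * d * g⁻¹) * k := by rw [hk, e]
      _ = d * (g⁻¹ * k) := by group
  have := mul_mem hg (M.cent hc)
  rwa [mul_inv_cancel_left] at this

/-- The centralizer of a member lies in the subgroup. -/
theorem Mem.cent {x c : G} (h : M.Mem x) (hc : Commute c x) : c ∈ M.F.range := by
  obtain ⟨g, hg, e⟩ := id h
  have h1 : c * g ∈ M.F.range := h.range_of_conj (by
    calc c * g * d * (c * g)⁻¹ = c * (g * d * g⁻¹) * c⁻¹ := by group
      _ = x := by rw [e, hc.eq, mul_inv_cancel_right])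
  have := mul_mem h1 (inv_mem hg)
  rwa [mul_inv_cancel_right] at this

theorem mem_image {u : Cfsg.Spor.Fi23} (h : IsConj delta23 u) : M.Mem (M.F u) := by
  obtain ⟨g, rfl⟩ := isConj_iff.1 h
  exact ⟨M.F g, ⟨g, rfl⟩, by rw [map_mul, map_mul, map_inv, M.delta]⟩

theorem Mem.source {x : G} (h : M.Mem x) : ∃ u, IsConj delta23 u ∧ M.F u = x := by
  obtain ⟨_, ⟨g, rfl⟩, rfl⟩ := h
  exact ⟨g * delta23 * g⁻¹, isConj_iff.2 ⟨g, rfl⟩, by rw [map_mul, map_mul, map_inv, M.delta]⟩

theorem Mem.braid {x y : G} (hx : M.Mem x) (hy : M.Mem y) (h : ¬ Commute x y) :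
    x * y * x = y * x * y := by
  obtain ⟨u, hu, rfl⟩ := hx.source
  obtain ⟨v, hv, rfl⟩ := hy.source
  have hs := class23.1.1
  have h2 : ∀ w, IsConj delta23 w → w * w = 1 := fun w hw => by
    rw [← pow_two, ← hs.1 w hw, pow_orderOf_eq_one]
  rcases hs.2 u hu v hv with e | e
  · refine absurd (Commute.map ?_ M.F) h
    rw [pow_two] at e
    calc u * v = (u * v)⁻¹ := eq_inv_of_mul_eq_one_left e
      _ = v * u := by rw [mul_inv_rev, inv_eq_of_mul_eq_one_left (h2 u hu), inv_eq_of_mul_eq_one_left (h2 v hv)]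
  · rw [← map_mul, ← map_mul, ← map_mul, ← map_mul]
    refine congrArg M.F ?_
    calc u * v * u = (u * v) ^ 3 * (v⁻¹ * u⁻¹ * v⁻¹) := by rw [pow_succ, pow_two]; group
      _ = v * u * v := by
        rw [e, one_mul, inv_eq_of_mul_eq_one_left (h2 u hu), inv_eq_of_mul_eq_one_left (h2 v hv)]

variable (H : Hyp d E π z) (Fr : Frame E π z)
include H Fr

theorem mem_lift (p : Fin 3510) : M.Mem (Fr.L.Y p : G) := by
  obtain ⟨u, hu, hc, hne⟩ := M.near
  rcases (Fr.mem_iff ⟨M.F u, Subgroup.mem_centralizer_singleton_iff.2 hc⟩).1 (mem_image hu).isConj with e | ⟨q, e⟩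
  · exact absurd ((congrArg Subtype.val e).trans H.z_val) hne
  · obtain ⟨c, hcq⟩ := Frame.lift_trans H Fr q p
    have h1 : M.Mem (Fr.L.Y q : G) := by rw [e]; exact mem_image hu
    rw [← hcq]
    exact h1.conj (M.cent c.2)

/-- A member commuting with a member of the subgroup is in it. -/
theorem Mem.of_commute {x y : G} (hx : M.Mem x) (hy : IsConj d y) (h : Commute y x) : M.Mem y := by
  by_cases hne : y = x
  · exact hne ▸ hx
  obtain ⟨k, hk⟩ := isConj_iff.1 hx.isConj
  obtain ⟨p, rfl⟩ := Frame.exists_pt H Fr (k := k) hy (by rw [hk]; exact h) (by rw [hk]; exact hne)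
  exact (mem_lift H Fr p).conj (hx.range_of_conj hk)

/-- An involution of the subgroup commutes with one of its members. -/
theorem exists_mem_commute {t : G} (ht : t ∈ M.F.range) (h2 : t * t = 1) :
    ∃ x, M.Mem x ∧ Commute t x := by
  obtain ⟨u, rfl⟩ := ht
  obtain ⟨x, hx, hc⟩ := exists_commute23 u (M.inj (by rw [map_mul, h2, map_one]))
  exact ⟨M.F x, mem_image hx, hc.map M.F⟩

/-- The members in the subgroup form one class there. -/
theorem mem_of_range {y : G} (hy : IsConj d y) (h : y ∈ M.F.range) : M.Mem y := by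
  obtain ⟨x, hx, hc⟩ := exists_mem_commute H Fr h (H.conj_sq hy).1
  exact hx.of_commute H Fr hy hc

end Emb

end Cfsg.Lib.Fischer.Cent23
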