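import Cfsg.Agent.Lib.Fischer.FromCent.Pairs

/-!
# Glauberman's theorem in the centralizer of the product of two commuting involutions

If no conjugate of `a` under that centralizer exchanges `a` with `b` and the conjugates commuting with `a`
are `a` and `b`, then `a` is isolated modulo the product.
-/

set_option autoImplicit false
set_option linter.unusedSectionVars false

namespace Cfsg.Lib.Fischer.Cent23

open scoped commutatorElement
open Cfsg Cfsg.Lib.Fischer.FromCent

variable {G : Type*} [Group G] [Finite G] {a b : G}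

theorem zstep (ha2 : a * a = 1) (hb2 : b * b = 1) (ha1 : a ≠ 1) (hb1 : b ≠ 1) (hab : Commute a b) (hne : a ≠ b)
    (hswap : ∀ g, Commute g (a * b) → g * a * g⁻¹ * a * (g * a * g⁻¹) ≠ b)
    (hcases : ∀ g, Commute g (a * b) → Commute a (g * a * g⁻¹) → g * a * g⁻¹ = a ∨ g * a * g⁻¹ = b)
    {w : G} (hw : Commute w (a * b)) :
    a * (w * a * w⁻¹) ∈ oddPart (a * b) ∨ a * b * (a * (w * a * w⁻¹)) ∈ oddPart (a * b) := by
  have ha' : a⁻¹ = a := inv_eq_of_mul_eq_one_left ha2
  have hb' : b⁻¹ = b := inv_eq_of_mul_eq_one_left hb2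
  set C := Subgroup.centralizer ({a * b} : Set G) with hC
  have hzC : a * b ∈ C := Subgroup.mem_centralizer_singleton_iff.2 rfl
  have haC : a ∈ C := Subgroup.mem_centralizer_singleton_iff.2 ((Commute.refl a).mul_right hab).eq
  let z : C := ⟨a * b, hzC⟩
  let u : C := ⟨a, haC⟩
  have hab1 : a * b ≠ 1 := fun e => hne ((eq_inv_of_mul_eq_one_left e).trans hb')
  have hsq : a * b * (a * b) = 1 := by rw [hab.symm.mul_mul_mul_comm, ha2, hb2, one_mul]
  have hz2 : orderOf z = 2 := orderOf_eq_prime (Subtype.ext (by rw [pow_two]; exact hsq))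
    fun h => hab1 (congrArg Subtype.val h)
  have hzc : z ∈ Subgroup.center C := Subgroup.mem_center_iff.2 fun g =>
    Subtype.ext (Subgroup.mem_centralizer_singleton_iff.1 g.2)
  set Z := Subgroup.zpowers z
  have hZn : Z.Normal := ⟨fun n hn g => by
    rw [Subgroup.mem_center_iff.1 (Subgroup.zpowers_le.2 hzc hn) g, mul_inv_cancel_right]; exact hn⟩
  have hZ : ∀ y ∈ Z, y = 1 ∨ y = z := by
    intro y hy
    obtain ⟨k, rfl⟩ := Subgroup.mem_zpowers_iff.1 hy
    rw [← zpow_mod_orderOf, hz2]
    rcases Int.emod_two_eq k with h | h <;> rw [Nat.cast_ofNat, h] <;> simp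
  have hu1 : (u : C ⧸ Z) ≠ 1 := by
    rw [Ne, QuotientGroup.eq_one_iff]
    intro h
    rcases hZ u h with h | h
    · exact ha1 (congrArg Subtype.val h)
    · exact hb1 (mul_eq_left.1 (congrArg Subtype.val h).symm)
  have hiso : Cfsg.IsIsolatedInvolution (u : C ⧸ Z) := by
    refine ⟨orderOf_eq_prime ?_ hu1, fun g hc => ?_⟩
    · rw [pow_two, ← QuotientGroup.mk_mul, QuotientGroup.eq_one_iff, show u * u = 1 from Subtype.ext ha2]
      exact one_mem _
    obtain ⟨g, rfl⟩ := QuotientGroup.mk_surjective g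
    rw [commute_iff_eq, ← QuotientGroup.mk_inv, ← QuotientGroup.mk_mul, ← QuotientGroup.mk_mul,
      ← QuotientGroup.mk_mul, ← QuotientGroup.mk_mul, QuotientGroup.eq] at hc
    have hgz : Commute (g : G) (a * b) := Subgroup.mem_centralizer_singleton_iff.1 g.2
    obtain ⟨g', hg'⟩ : ∃ g', g' = (g : G) * a * (g : G)⁻¹ := ⟨_, rfl⟩
    have hg2 : g' * g' = 1 := by
      rw [hg', show (g : G) * a * (g : G)⁻¹ * ((g : G) * a * (g : G)⁻¹) = g * (a * a) * (g : G)⁻¹ by group, ha2]
      group
    have hgi : g'⁻¹ = g' := inv_eq_of_mul_eq_one_left hg2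
    have hval : (((u * (g * u * g⁻¹))⁻¹ * (g * u * g⁻¹ * u) : C) : G) = g' * a * (g' * a) := by
      push_cast
      rw [mul_inv_rev, ← hg', hgi, ha']
    have hcom : Commute a g' := by
      rcases hZ _ hc with h | h
      · have h1 : g' * a * (g' * a) = 1 := hval ▸ congrArg Subtype.val h
        calc a * g' = g' * g' * (a * g') * (a * a) := by rw [hg2, ha2, one_mul, mul_one]
          _ = g' * (g' * a * (g' * a)) * a := by simp only [mul_assoc]
          _ = g' * a := by rw [h1, mul_one]
      · exfalso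
        have h1 : g' * a * (g' * a) = a * b := hval ▸ congrArg Subtype.val h
        refine hswap g hgz ?_
        rw [← hg']
        calc g' * a * g' = g' * a * g' * (a * a) := by rw [ha2, mul_one]
          _ = g' * a * (g' * a) * a := by simp only [mul_assoc]
          _ = b := by rw [h1, mul_assoc, hab.symm.eq, ← mul_assoc, ha2, one_mul]
    subst hg'
    rw [← QuotientGroup.mk_inv, ← QuotientGroup.mk_mul, ← QuotientGroup.mk_mul, QuotientGroup.eq]
    rcases hcases g hgz hcom with h | h
    · rw [show g * u * g⁻¹ = u from Subtype.ext h, inv_mul_cancel]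
      exact one_mem _
    · have : (g * u * g⁻¹)⁻¹ * u = z := Subtype.ext (by
        push_cast
        show ((g : G) * a * (g : G)⁻¹)⁻¹ * a = a * b
        rw [h, hb', hab.symm.eq])
      rw [this]
      exact Subgroup.mem_zpowers z
  have hmem := ZStar.zStarHolds (C ⧸ Z) _ hiso ((⟨w, Subgroup.mem_centralizer_singleton_iff.2 hw⟩ : C) : C ⧸ Z)
  rw [← QuotientGroup.mk_inv, ← QuotientGroup.mk_mul, ← QuotientGroup.mk_inv, ← QuotientGroup.mk_mul,
    ← QuotientGroup.mk_mul] at hmem
  let w' : C := ⟨w, Subgroup.mem_centralizer_singleton_iff.2 hw⟩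
  have hval : ((u * w' * u⁻¹ * w'⁻¹ : C) : G) = a * (w * a * w⁻¹) := by
    push_cast
    show a * w * a⁻¹ * w⁻¹ = _
    rw [ha']
    simp only [mul_assoc]
  rcases oddCore_lift hz2 hzc hmem with h | h
  · exact Or.inl ⟨_, h, hval⟩
  · refine Or.inr ⟨_, h, ?_⟩
    show ((z * (u * w' * u⁻¹ * w'⁻¹) : C) : G) = _
    push_cast [← hval]
    rfl

end Cfsg.Lib.Fischer.Cent23
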