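import Cfsg.Agent.Lib.Fischer.Cent23.Members
import Cfsg.Agent.Lib.Fischer.Cent23.ZStep

/-!
# The centralizer of the product of two commuting members

It is inside the subgroup: Glauberman's theorem applies and the odd core is trivial, because the common
neighbours invert it and five of them multiply to the product.
-/

set_option autoImplicit false
set_option linter.unusedSectionVars false
set_option maxRecDepth 100000

namespace Cfsg.Lib.Fischer.Cent23

open Module Cfsg Cfsg.Lib.CosetEnum Cfsg.Lib.CosetEnum.Fi22Two Cfsg.Lib.Fischer Cfsg.Lib.Fischer.Relations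
open Cfsg.Lib.Linear.Herm Cfsg.Agent.S1631
open Cfsg.Lib.Fischer.FromCent (oddPart oddPart_conj oddPart_commute oddPart_odd oddPart_inverts eq_one_of_odd)

/-- A normal subgroup of odd order of the centralizer of a transposition in a group of type M(22) is trivial. -/
theorem odd_normal_trivial {Q : Type*} [Group Q] [Finite Q] {E : Set Q} (hT : Trans E)
    (hprim : Cfsg.IsPrimitiveUnderConj E) (h22 : Cfsg.IsOfTypeM22 Q E) {δ : Q} (hδ : δ ∈ E)
    (hthree : ∃ a ∈ E, ∃ b ∈ E, ∃ c ∈ E, a ≠ b ∧ a ≠ c ∧ b ≠ c ∧ Commute a b ∧ Commute a c ∧ Commute b c)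
    (K : Subgroup Q) (hK : ∀ k ∈ K, Commute k δ ∧ Odd (orderOf k))
    (hnorm : ∀ g, Commute g δ → ∀ k ∈ K, g * k * g⁻¹ ∈ K) {k : Q} (hk : k ∈ K) : k = 1 := by
  obtain ⟨Fd, _, _, hF, d₁, ⟨C⟩⟩ := m22_coord hT hprim h22
  obtain ⟨U⟩ := C.nbr δ hδ
  have h2 : ∀ u ∈ E, u * u = 1 := fun u hu => mul_self hT hu
  have hodd : ∀ x ∈ K, x * x = 1 → x = 1 := fun x hx h => eq_one_of_odd (hK x hx).2 h
  have hside : ∀ u ∈ perp E δ, ∀ v ∈ perp E δ, u * v ∈ K → u = v := by
    intro u hu v hv huv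
    by_contra hne
    have hnc : ¬ Commute u v := fun h => hne (by
      have := hodd _ huv (by rw [h.symm.mul_mul_mul_comm, h2 u hu.1, h2 v hv.1, one_mul])
      rw [eq_inv_of_mul_eq_one_left this, inv_eq_of_mul_eq_one_left (h2 v hv.1)])
    have claim : ∀ s ∈ perp E δ, s ≠ u → Commute u s → Commute v s := by
      intro s hs hsu hus
      by_contra hvs
      have hs2 := h2 s hs.1
      have hsi : s⁻¹ = s := inv_eq_of_mul_eq_one_left hs2
      have h3 : (v * s) ^ 3 = 1 := by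
        refine (hT.set.2 v hv.1 s hs.1).resolve_left fun e => hvs ?_
        rw [pow_two] at e
        calc v * s = (v * s)⁻¹ := eq_inv_of_mul_eq_one_left e
          _ = s * v := by rw [mul_inv_rev, hsi, inv_eq_of_mul_eq_one_left (h2 v hv.1)]
      have e1 := hnorm s hs.2.2.symm _ huv
      rw [hsi] at e1
      have e2 : (u * v)⁻¹ * (s * (u * v) * s) ∈ K := mul_mem (inv_mem huv) e1
      have e3 : (u * v)⁻¹ * (s * (u * v) * s) = (v * s) ^ 2 := by
        rw [mul_inv_rev, inv_eq_of_mul_eq_one_left (h2 u hu.1), inv_eq_of_mul_eq_one_left (h2 v hv.1), pow_two]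
        calc v * u * (s * (u * v) * s) = v * (u * s) * u * v * s := by simp only [mul_assoc]
          _ = v * s * (u * u) * (v * s) := by rw [hus.eq]; simp only [mul_assoc]
          _ = v * s * (v * s) := by rw [h2 u hu.1, mul_one]
      rw [e3] at e2
      have hvsK : v * s ∈ K := by
        have := mul_mem e2 e2
        rwa [← pow_add, show 2 + 2 = 3 + 1 from rfl, pow_succ _ 3, h3, one_mul] at this
      have hus' : u * s ∈ K := by
        have := mul_mem huv hvsK
        rwa [mul_assoc, ← mul_assoc v, h2 v hv.1, one_mul] at this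
      refine hsu ?_
      have := hodd _ hus' (by rw [hus.symm.mul_mul_mul_comm, h2 u hu.1, hs2, one_mul])
      rw [eq_inv_of_mul_eq_one_left this, hsi]
    -- a further neighbour commuting with the first
    obtain ⟨a, ha, b, hb, c, hc, hab, hac, hbc, cab, cac, cbc⟩ := hthree
    obtain ⟨g, rfl⟩ := hT.trans a ha δ hδ
    have hgb : g * b * g⁻¹ ∈ perp E (g * a * g⁻¹) :=
      ⟨hT.conj g b hb, fun e => hab (mul_left_cancel (mul_right_cancel e)).symm, (Commute.conj_iff g).2 cab⟩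
    have hgc : g * c * g⁻¹ ∈ perp E (g * a * g⁻¹) :=
      ⟨hT.conj g c hc, fun e => hac (mul_left_cancel (mul_right_cancel e)).symm, (Commute.conj_iff g).2 cac⟩
    obtain ⟨h, hh, hhu⟩ := Fischer.perp_transitive C.fis hδ hgb hu
    have hha : Commute h (g * a * g⁻¹) := Subgroup.mem_centralizer_singleton_iff.1
      (((Subgroup.closure_le _).2 fun y hy => Subgroup.mem_centralizer_singleton_iff.2 hy.2.2.eq.symm) hh)
    obtain ⟨w, hw⟩ : ∃ w, w = h * (g * c * g⁻¹) * h⁻¹ := ⟨_, rfl⟩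
    have hwp : w ∈ perp E (g * a * g⁻¹) := by
      refine ⟨hw ▸ hT.conj h _ hgc.1, fun e => hgc.2.1 ?_, ?_⟩
      · rw [hw] at e
        calc g * c * g⁻¹ = h⁻¹ * (h * (g * c * g⁻¹) * h⁻¹) * h := by group
          _ = h⁻¹ * ((g * a * g⁻¹) * h) := by rw [e]; group
          _ = g * a * g⁻¹ := by rw [← hha.eq]; group
      · have := (Commute.conj_iff h).2 hgc.2.2
        rwa [hha.eq, mul_inv_cancel_right, ← hw] at this
    have huw : Commute u w := by
      rw [← hhu, hw]; exact (Commute.conj_iff h).2 ((Commute.conj_iff g).2 cbc)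
    have hwu : w ≠ u := fun e => hbc (by
      rw [hw, ← hhu] at e
      exact (mul_left_cancel (mul_right_cancel (mul_left_cancel (mul_right_cancel e)))).symm)
    have z0 : ∀ {p q : Q}, p ∈ perp E (g * a * g⁻¹) → q ∈ perp E (g * a * g⁻¹) → Commute p q →
        hB hF 6 (U.c p) (U.c q) = 0 := fun hp hq h => (U.comm _ hp _ hq).1 h
    obtain ⟨r, hr⟩ : ∃ r, r = U.c w + U.c u := ⟨_, rfl⟩
    have hriso : hB hF 6 r r = 0 := by
      rw [hr]
      simp only [map_add, LinearMap.add_apply, U.iso w hwp, U.iso u hu, z0 hwp hu huw.symm, z0 hu hwp huw,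
        add_zero]
    have hr0 : r ≠ 0 := fun e => hwu (U.inj u hu w hwp (-1) (by
      rw [hr] at e; rw [neg_one_smul]; exact eq_neg_of_add_eq_zero_left e)).symm
    obtain ⟨e, he, l, hl, hce⟩ := U.every r hriso hr0
    have heu : e ≠ u := fun h' => hwu (U.inj u hu w hwp (l⁻¹ - 1) (by
      rw [h', hr] at hce
      rw [sub_smul, one_smul, eq_sub_iff_add_eq]
      conv_rhs => rw [hce]
      rw [inv_smul_smul₀ hl])).symm
    have hue : Commute u e := (U.comm u hu e he).2 (by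
      rw [hce, hr, map_smul, map_add, z0 hu hwp huw, U.iso u hu, add_zero, smul_zero])
    have h1 := z0 hv hwp (claim w hwp hwu huw)
    have h3 := z0 hv he (claim e he heu hue)
    rw [hce, hr, map_smul, map_add, h1, zero_add, smul_eq_mul] at h3
    exact hnc ((U.comm v hv u hu).2 ((mul_eq_zero.1 h3).resolve_left hl)).symm
  have hcomm : ∀ y ∈ perp E δ, Commute k y := by
    intro y hy
    have hy' : k * y * k⁻¹ ∈ perp E δ := by
      refine ⟨hT.conj k y hy.1, fun e => hy.2.1 ?_, ?_⟩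
      · calc y = k⁻¹ * (k * y * k⁻¹) * k := by group
          _ = k⁻¹ * (δ * k) := by rw [e]; group
          _ = δ := by rw [← (hK k hk).1.eq]; group
      · have := (Commute.conj_iff k).2 hy.2.2
        rwa [(hK k hk).1.eq, mul_inv_cancel_right] at this
    have hyi : y⁻¹ = y := inv_eq_of_mul_eq_one_left (h2 y hy.1)
    have hmem : y * (k * y * k⁻¹) ∈ K := by
      have := mul_mem (hnorm y hy.2.2.symm k hk) (inv_mem hk)
      rw [hyi] at this
      simpa only [mul_assoc] using this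
    exact mul_inv_eq_iff_eq_mul.1 (hside y hy _ hy' hmem).symm
  rcases eq_or_eq_of_centralizes C.fis C.nbr hδ hprim C.cen (hK k hk).1 hcomm with h | h
  · exact h
  · exact hodd k hk (h ▸ h2 δ hδ)

variable {G : Type*} [Group G] [Finite G] {d : G} {Q : Type*} [Group Q] [Finite Q] {E : Set Q}
  {π : ↥(Subgroup.centralizer ({d} : Set G)) →* Q} {z : ↥(Subgroup.centralizer ({d} : Set G))}

namespace Frame

variable (H : Hyp d E π z) (F : Frame E π z)
include H F

/-- The lifts of the twenty-two in coordinates. -/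
theorem lift_coord {j : ℕ} (hj : j < 22) : F.L.Y (P j hj) = ev11 z F.T F.L₀ (coord.getD j 0 ^^^ F.f) := by
  rw [F.L_eq, ev11_xor F.T F.L₀ H.hd, ← (F.coord_ok.2 j hj).2, genL_eq F.T F.L₀ hj]
  rcases F.sign with h | h
  · simp [signZ, h, ev11_zero F.T F.L₀ H.hd]
  · simp [signZ, h, ev11_top F.T F.L₀ H.hd]

theorem clique_commute {i j : ℕ} (hi : i < 22) (hj : j < 22) :
    Commute (F.L.Y (P i hi)) (F.L.Y (P j hj)) := by
  rw [← genL_eq F.T F.L hi, ← genL_eq F.T F.L hj]
  exact genL_commute F.T F.L hi hj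

theorem P_ne {i j : ℕ} (hi : i < 22) (hj : j < 22) (h : i ≠ j) : P i hi ≠ P j hj := by
  intro e
  have := congrArg Fin.val e
  exact h ((show ∀ i < 22, ∀ j < 22, clique.getD i 0 = clique.getD j 0 → i = j by decide +kernel) i hi j hj this)

theorem three_commuting : ∃ a ∈ E, ∃ b ∈ E, ∃ c ∈ E, a ≠ b ∧ a ≠ c ∧ b ≠ c ∧
    Commute a b ∧ Commute a c ∧ Commute b c := by
  have h : ∀ {i j : ℕ} (hi : i < 22) (hj : j < 22), i ≠ j →
      F.T.A.delta (P i hi) ≠ F.T.A.delta (P j hj) := fun hi hj hne e =>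
    P_ne H F hi hj hne (F.T.A.delta_injective e)
  have c : ∀ {i j : ℕ} (hi : i < 22) (hj : j < 22), Commute (F.T.A.delta (P i hi)) (F.T.A.delta (P j hj)) :=
    fun hi hj => (lift_commute H F).1 (clique_commute H F hi hj)
  exact ⟨_, delta_mem H F (P 0 (by norm_num)), _, delta_mem H F (P 1 (by norm_num)), _,
    delta_mem H F (P 2 (by norm_num)), h _ _ (by norm_num), h _ _ (by norm_num), h _ _ (by norm_num),
    c _ _, c _ _, c _ _⟩

/-- Six of the lifts multiply to the central involution. -/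
theorem hexad_prod : F.L.Y (P 0 (by norm_num)) * F.L.Y (P 1 (by norm_num)) * F.L.Y (P 2 (by norm_num)) *
    F.L.Y (P 6 (by norm_num)) * F.L.Y (P 20 (by norm_num)) * F.L.Y (P 21 (by norm_num)) = z := by
  simp only [lift_coord H F, ← ev11_xor F.T F.L₀ H.hd]
  conv_rhs => rw [← ev11_top F.T F.L₀ H.hd]
  congr 1
  rcases F.sign with h | h <;> rw [h] <;> decide +kernel

end Frame

namespace Emb

variable {M : Emb d} (H : Hyp d E π z) (Fr : Frame E π z)
include H Fr

/-- A member of the subgroup commuting with a pair product commutes with the two. -/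
theorem commute_pair {a b x : G} (ha : M.Mem a) (hb : M.Mem b) (hab : Commute a b) (hne : a ≠ b) (hx : M.Mem x)
    (hc : Commute x (a * b)) : Commute x a ∧ Commute x b := by
  have ha2 := (H.conj_sq ha.isConj).1
  have hb2 := (H.conj_sq hb.isConj).1
  have hx2 := (H.conj_sq hx.isConj).1
  have hba : b = a * (a * b) := by rw [← mul_assoc, ha2, one_mul]
  have hab' : a = a * b * b := by rw [mul_assoc, hb2, mul_one]
  by_cases hxa : Commute x a
  · exact ⟨hxa, hba ▸ hxa.mul_right hc⟩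
  exfalso
  by_cases hxb : Commute x b
  · exact hxa (hab' ▸ hc.mul_right hxb)
  have e1 := hx.braid ha hxa
  have e2 := hx.braid hb hxb
  have et : x * (a * b) * x = a * b := by rw [hc.eq, mul_assoc, hx2, mul_one]
  have h1 : x * (a * b) * x = a * (x * (a * b) * x) * b := by
    calc x * (a * b) * x = (x * a * x) * (x * b * x) := by
          simp only [mul_assoc]; rw [← mul_assoc x x, hx2, one_mul]
      _ = a * x * a * (b * x * b) := by rw [e1, e2]
      _ = a * (x * (a * b) * x) * b := by simp only [mul_assoc]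
  rw [et, show a * (a * b) * b = 1 by rw [← mul_assoc a a b, ha2, one_mul, hb2]] at h1
  exact hne ((eq_inv_of_mul_eq_one_left h1).trans (inv_eq_of_mul_eq_one_left hb2))

omit H in
/-- The second member of the standard pair. -/
def second : G := (Fr.L.Y (P 0 (by norm_num)) : G)

theorem second_facts : M.Mem (second Fr) ∧ Commute d (second Fr) ∧ d ≠ second Fr := by
  refine ⟨mem_lift H Fr _, ?_, fun e => (Frame.lift_ne H Fr (P 0 (by norm_num))).1 (Subtype.ext ?_)⟩
  · exact (Subgroup.mem_centralizer_singleton_iff.1 (Fr.L.Y (P 0 (by norm_num))).2).symm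
  · rw [H.z_val]; exact e.symm

theorem conj_cases {g : G} (hg : Commute g (d * second Fr)) (hc : Commute d (g * d * g⁻¹)) (M : Emb d) :
    g * d * g⁻¹ = d ∨ g * d * g⁻¹ = second Fr := by
  obtain ⟨-, hdb, hdne⟩ := second_facts (M := M) H Fr
  obtain ⟨b, hb⟩ : ∃ b, b = second Fr := ⟨_, rfl⟩
  rw [← hb] at hg hdb hdne ⊢
  by_contra hcon
  push Not at hcon
  obtain ⟨a', ha'⟩ : ∃ a', a' = g * d * g⁻¹ := ⟨_, rfl⟩
  obtain ⟨b', hb'⟩ : ∃ b', b' = g * b * g⁻¹ := ⟨_, rfl⟩
  have hbm : IsConj d b := hb ▸ (Fr.mem_iff _).2 (Or.inr ⟨_, rfl⟩)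
  have hb2 := (H.conj_sq hbm).1
  have hprod : a' * b' = d * b := by
    rw [ha', hb', show g * d * g⁻¹ * (g * b * g⁻¹) = g * (d * b) * g⁻¹ by group, hg.eq, mul_inv_cancel_right]
  have ha2 : a' * a' = 1 := (H.conj_sq (ha' ▸ isConj_iff.2 ⟨g, rfl⟩)).1
  rw [← ha'] at hc hcon
  have hb'eq : b' = a' * (d * b) := by rw [← hprod, ← mul_assoc, ha2, one_mul]
  have hd' : Commute d (d * b) := (Commute.refl d).mul_right hdb
  have hb'c : Commute d b' := hb'eq ▸ hc.mul_right hd'
  have hab' : Commute a' b' := by rw [ha', hb']; exact (Commute.conj_iff g).2 hdb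
  have hne' : a' ≠ b' := by rw [ha', hb']; exact fun e => hdne (mul_left_cancel (mul_right_cancel e))
  have hb'd : b' ≠ d := fun e => hcon.2 (by
    rw [e, hdb.eq] at hprod
    exact mul_right_cancel hprod)
  obtain ⟨p', hp'⟩ := Frame.exists_pt H Fr (k := 1) (ha' ▸ isConj_iff.2 ⟨g, rfl⟩)
    (by simpa using hc.symm) (by simpa using hcon.1)
  obtain ⟨q', hq'⟩ := Frame.exists_pt H Fr (k := 1) (hb' ▸ hbm.trans (isConj_iff.2 ⟨g, rfl⟩))
    (by simpa using hb'c.symm) (by simpa using hb'd)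
  obtain ⟨p, hp⟩ := Frame.exists_pt H Fr (k := 1) hbm (by simpa using hdb.symm) (by simpa using Ne.symm hdne)
  have hbb' : b' ≠ b := fun e => hcon.1 (by rw [e] at hprod; exact mul_right_cancel hprod)
  have hcb : Commute a' b := by
    have : Commute a' (d * b) := hprod ▸ (Commute.refl a').mul_right hab'
    have e : b = d * (d * b) := by rw [← mul_assoc, H.d_sq, one_mul]
    rw [e]; exact hc.symm.mul_right this
  have hcb' : Commute b' b := by
    rw [hb'eq]; exact hcb.mul_left (hdb.mul_left (Commute.refl b))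
  have hz : Fr.L.Y p' * Fr.L.Y q' * Fr.L.Y p = z := by
    refine view_inj (1 : G) ?_
    rw [map_mul, map_mul, view_z H]
    show Fr.pt 1 p' * Fr.pt 1 q' * Fr.pt 1 p = 1 * d * 1⁻¹
    rw [hp', hq', hp, hprod, mul_assoc, hb2]; simp
  have key := congrArg π hz
  rw [map_mul, map_mul, Fr.L.proj, Fr.L.proj, Fr.L.proj, H.hd.proj_z] at key
  have dne : ∀ {r s : Fin 3510} {x y : G}, Fr.pt 1 r = x → Fr.pt 1 s = y → x ≠ y →
      Fr.T.A.delta r ≠ Fr.T.A.delta s := fun h1 h2 h3 e => h3 (by rw [← h1, ← h2, Fr.T.A.delta_injective e])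
  have dc : ∀ {r s : Fin 3510} {x y : G}, Fr.pt 1 r = x → Fr.pt 1 s = y → Commute x y →
      Commute (Fr.T.A.delta r) (Fr.T.A.delta s) := fun h1 h2 h3 =>
    (Frame.pt_commute H Fr (k := 1)).1 (by rw [h1, h2]; exact h3)
  have := H.noRel [Fr.T.A.delta p', Fr.T.A.delta q', Fr.T.A.delta p]
    (by simp [dne hp' hq' hne', dne hp' hp hcon.2, dne hq' hp hbb'])
    (by simp [Frame.delta_mem H Fr])
    (by simp [dc hp' hq' hab', dc hp' hp hcb, dc hq' hp hcb', (dc hp' hq' hab').symm, (dc hp' hp hcb).symm,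
      (dc hq' hp hcb').symm])
    (fun y _ => by simp [← mul_assoc, key]) (by simp)
  simp at this

theorem not_swap {g : G} (M : Emb d) :
    g * d * g⁻¹ * d * (g * d * g⁻¹) ≠ second Fr := by
  intro h
  obtain ⟨hbm, hdb, hdne⟩ := second_facts (M := M) H Fr
  obtain ⟨p, hp⟩ : ∃ p, (Fr.L.Y p : G) = second Fr := ⟨_, rfl⟩
  rw [← hp] at h hbm hdb hdne
  obtain ⟨x, hx⟩ : ∃ x, x = g * d * g⁻¹ := ⟨_, rfl⟩
  rw [← hx] at h
  have hxc : IsConj d x := hx ▸ isConj_iff.2 ⟨g, rfl⟩
  have hx2 := (H.conj_sq hxc).1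
  obtain ⟨k, hk, hkb⟩ := Frame.pair_trans H Fr hbm.isConj (IsConj.refl d) hdb.symm hdne.symm p
  have hkr : k ∈ M.F.range := hbm.range_of_conj hk
  have hxr : x ∈ M.F.range := by
    have hxi : x⁻¹ = x := inv_eq_of_mul_eq_one_left hx2
    have hc : k⁻¹ * x ∈ Subgroup.centralizer ({d} : Set G) := by
      rw [Subgroup.mem_centralizer_singleton_iff]
      calc k⁻¹ * x * d = k⁻¹ * (x * d * x) * x⁻¹ := by group
        _ = k⁻¹ * (k * d * k⁻¹) * x⁻¹ := by rw [h, hk]
        _ = d * (k⁻¹ * x) := by rw [hxi]; group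
    have := mul_mem hkr (M.cent hc)
    rwa [mul_inv_cancel_left] at this
  have hxm := mem_of_range H Fr hxc hxr
  by_cases hxd : Commute x d
  · exact hdne (by rw [← h, hxd.eq, mul_assoc, hx2, mul_one])
  · rw [hxm.braid M.mem_d hxd] at h
    refine hxd ?_
    have e : x = (Fr.L.Y p : G) := by
      calc x = d * (d * x * d) * d := by simp only [mul_assoc, H.d_sq, mul_one]; rw [← mul_assoc, H.d_sq, one_mul]
        _ = d * (Fr.L.Y p : G) * d := by rw [h]
        _ = (Fr.L.Y p : G) := by rw [hdb.eq, mul_assoc, H.d_sq, mul_one]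
    rw [e]; exact hdb.symm

/-- The elements of odd order of the subgroup that commute with the pair product fix `d`. -/
theorem odd_fix {x : G} (hx : x ∈ M.F.range) (ho : Odd (orderOf x)) (hc : Commute x (d * second Fr)) :
    Commute x d := by
  obtain ⟨hbm, hdb, hdne⟩ := second_facts (M := M) H Fr
  have hm : M.Mem (x * d * x⁻¹) := M.mem_d.conj hx
  have hct : Commute (x * d * x⁻¹) (d * second Fr) := by
    have := (Commute.conj_iff x).2 ((Commute.refl d).mul_right hdb : Commute d (d * second Fr))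
    rwa [hc.eq, mul_inv_cancel_right] at this
  have hcd := (commute_pair H Fr M.mem_d hbm hdb hdne hm hct).1
  rcases conj_cases H Fr hc hcd.symm M with h | h
  · exact mul_inv_eq_iff_eq_mul.1 h
  exfalso
  have hprod : x * d * x⁻¹ * (x * second Fr * x⁻¹) = d * second Fr := by
    rw [show x * d * x⁻¹ * (x * second Fr * x⁻¹) = x * (d * second Fr) * x⁻¹ by group, hc.eq,
      mul_inv_cancel_right]
  have hb' : x * second Fr * x⁻¹ = d := by
    rw [h, hdb.eq] at hprod
    exact mul_left_cancel hprod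
  have h2 : Commute (x * x) d := by
    refine mul_inv_eq_iff_eq_mul.1 ?_
    calc x * x * d * (x * x)⁻¹ = x * (x * d * x⁻¹) * x⁻¹ := by group
      _ = d := by rw [h, hb']
  obtain ⟨m, hm'⟩ := ho
  have hxe : x = (x * x) ^ (m + 1) := by
    rw [← pow_two, ← pow_mul, show 2 * (m + 1) = orderOf x + 1 by omega, pow_succ, pow_orderOf_eq_one, one_mul]
  have hxd : Commute x d := hxe ▸ h2.pow_left (m + 1)
  exact hdne (by rw [← h, hxd.eq, mul_inv_cancel_right])

theorem odd_meet {x : G} (hx : x ∈ oddPart (d * second Fr)) (hxd : Commute x d) : x = 1 := by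
  classical
  obtain ⟨p, hp⟩ : ∃ p, p = P 0 (show 0 < 22 by norm_num) := ⟨_, rfl⟩
  have hb : (Fr.L.Y p : G) = second Fr := by rw [hp]; rfl
  rw [← hb] at hx
  let O := (oddPart (d * (Fr.L.Y p : G))).subgroupOf (Subgroup.centralizer ({d} : Set G))
  let c₀ : ↥(Subgroup.centralizer ({d} : Set G)) := ⟨x, Subgroup.mem_centralizer_singleton_iff.2 hxd⟩
  have hK : ∀ k ∈ O.map π, Commute k (Fr.T.A.delta p) ∧ Odd (orderOf k) := by
    rintro _ ⟨c, hc, rfl⟩
    have hc' : (c : G) ∈ oddPart (d * (Fr.L.Y p : G)) := hc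
    have hcd : Commute (c : G) d := Subgroup.mem_centralizer_singleton_iff.1 c.2
    have hcb : Commute (c : G) (Fr.L.Y p : G) := by
      have := hcd.mul_right (oddPart_commute hc')
      rwa [← mul_assoc, H.d_sq, one_mul] at this
    refine ⟨?_, ?_⟩
    · rw [← Fr.L.proj]
      exact (show Commute c (Fr.L.Y p) from Subtype.ext hcb.eq).map π
    · refine Odd.of_dvd_nat ?_ (orderOf_map_dvd π c)
      rw [← Subgroup.orderOf_coe]
      exact oddPart_odd hc'
  have hnorm : ∀ g, Commute g (Fr.T.A.delta p) → ∀ k ∈ O.map π, g * k * g⁻¹ ∈ O.map π := by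
    rintro g hg _ ⟨c, hc, rfl⟩
    obtain ⟨c', rfl⟩ := H.hd.surj g
    refine ⟨c' * c * c'⁻¹, ?_, by rw [map_mul, map_mul, map_inv]⟩
    have hfix : c' * Fr.L.Y p * c'⁻¹ = Fr.L.Y p := by
      rw [equivariant Fr.T Fr.L H.hd, (Fr.T.A.commute_delta_iff _ p).1 hg.eq]
    have h1 : Commute (c' : G) (Fr.L.Y p : G) := congrArg Subtype.val (mul_inv_eq_iff_eq_mul.1 hfix)
    have h2 : Commute (c' : G) d := Subgroup.mem_centralizer_singleton_iff.1 c'.2
    show ((c' * c * c'⁻¹ : ↥(Subgroup.centralizer ({d} : Set G))) : G) ∈ oddPart (d * (Fr.L.Y p : G))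
    push_cast
    exact oddPart_conj (h2.mul_right h1) hc
  have h1 := odd_normal_trivial H.trans H.prim H.type22 (Frame.delta_mem H Fr p) (Frame.three_commuting H Fr)
    (O.map π) hK hnorm (⟨c₀, hx, rfl⟩ : π c₀ ∈ O.map π)
  rcases (H.hd.ker_iff c₀).1 h1 with e | e
  · exact congrArg Subtype.val e
  · have hxd' : x = d := (congrArg Subtype.val e).trans H.z_val
    exact eq_one_of_odd (oddPart_odd hx) (hxd' ▸ H.d_sq)

theorem odd_trivial (M : Emb d) {x : G} (hx : x ∈ oddPart (d * second Fr)) : x = 1 := by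
  obtain ⟨hbm, hdb, hdne⟩ := second_facts (M := M) H Fr
  have hflip : ∀ j, ∀ hj : j < 22, j ≠ 0 → ∀ y ∈ oddPart (d * second Fr),
      (Fr.L.Y (P j hj) : G) * y * (Fr.L.Y (P j hj) : G) = y⁻¹ := by
    intro j hj hj0 y hy
    have he2 : (Fr.L.Y (P j hj) : G) * (Fr.L.Y (P j hj) : G) = 1 := congrArg Subtype.val (Fr.L.sq _)
    have hed : Commute (Fr.L.Y (P j hj) : G) d := Subgroup.mem_centralizer_singleton_iff.1 (Fr.L.Y _).2
    have heb : Commute (Fr.L.Y (P j hj) : G) (second Fr) :=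
      congrArg Subtype.val (Frame.clique_commute H Fr hj (show 0 < 22 by norm_num)).eq
    refine oddPart_inverts he2 (hed.mul_right heb) (fun u hu huc => ?_) hy
    have hur : u ∈ M.F.range := (mem_lift H Fr (P j hj)).cent huc
    exact odd_meet H Fr hu (odd_fix H Fr hur (oddPart_odd hu) (oddPart_commute hu))
  have hsix := congrArg Subtype.val (Frame.hexad_prod H Fr)
  push_cast at hsix
  rw [H.z_val] at hsix
  obtain ⟨b, hb⟩ : ∃ b, b = second Fr := ⟨_, rfl⟩
  obtain ⟨e₁, he₁⟩ : ∃ e, e = (Fr.L.Y (P 1 (show 1 < 22 by norm_num)) : G) := ⟨_, rfl⟩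
  obtain ⟨e₂, he₂⟩ : ∃ e, e = (Fr.L.Y (P 2 (show 2 < 22 by norm_num)) : G) := ⟨_, rfl⟩
  obtain ⟨e₃, he₃⟩ : ∃ e, e = (Fr.L.Y (P 6 (show 6 < 22 by norm_num)) : G) := ⟨_, rfl⟩
  obtain ⟨e₄, he₄⟩ : ∃ e, e = (Fr.L.Y (P 20 (show 20 < 22 by norm_num)) : G) := ⟨_, rfl⟩
  obtain ⟨e₅, he₅⟩ : ∃ e, e = (Fr.L.Y (P 21 (show 21 < 22 by norm_num)) : G) := ⟨_, rfl⟩
  rw [← he₁, ← he₂, ← he₃, ← he₄, ← he₅, show (Fr.L.Y (P 0 (show 0 < 22 by norm_num)) : G) = b from hb.symm] at hsix
  rw [← hb] at hx hflip hdb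
  have hb2 : b * b = 1 := hb ▸ congrArg Subtype.val (Fr.L.sq _)
  have hfive : e₁ * e₂ * e₃ * e₄ * e₅ = d * b := by
    rw [hdb.eq]
    calc e₁ * e₂ * e₃ * e₄ * e₅ = b * b * (e₁ * e₂ * e₃ * e₄ * e₅) := by rw [hb2, one_mul]
      _ = b * (b * e₁ * e₂ * e₃ * e₄ * e₅) := by simp only [mul_assoc]
      _ = b * d := by rw [hsix]
  have f : ∀ {e : G}, (∀ y ∈ oddPart (d * b), e * y * e = y⁻¹) → e * e = 1 → ∀ y ∈ oddPart (d * b),
      e * y * e⁻¹ = y⁻¹ := fun h h2 y hy => by rw [inv_eq_of_mul_eq_one_left h2]; exact h y hy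
  have sq : ∀ j (hj : j < 22), (Fr.L.Y (P j hj) : G) * (Fr.L.Y (P j hj) : G) = 1 :=
    fun j hj => congrArg Subtype.val (Fr.L.sq _)
  have g1 := f (e := e₁) (he₁ ▸ hflip 1 _ (by norm_num)) (he₁ ▸ sq 1 _)
  have g2 := f (e := e₂) (he₂ ▸ hflip 2 _ (by norm_num)) (he₂ ▸ sq 2 _)
  have g3 := f (e := e₃) (he₃ ▸ hflip 6 _ (by norm_num)) (he₃ ▸ sq 6 _)
  have g4 := f (e := e₄) (he₄ ▸ hflip 20 _ (by norm_num)) (he₄ ▸ sq 20 _)
  have g5 := f (e := e₅) (he₅ ▸ hflip 21 _ (by norm_num)) (he₅ ▸ sq 21 _)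
  have key : (d * b) * x * (d * b)⁻¹ = x⁻¹ := by
    rw [← hfive]
    calc e₁ * e₂ * e₃ * e₄ * e₅ * x * (e₁ * e₂ * e₃ * e₄ * e₅)⁻¹
        = e₁ * (e₂ * (e₃ * (e₄ * (e₅ * x * e₅⁻¹) * e₄⁻¹) * e₃⁻¹) * e₂⁻¹) * e₁⁻¹ := by group
      _ = x⁻¹ := by
        rw [g5 x hx, g4 _ (inv_mem hx), inv_inv, g3 x hx, g2 _ (inv_mem hx), inv_inv, g1 x hx]
  rw [← (oddPart_commute hx).eq, mul_inv_cancel_right] at key
  exact eq_one_of_odd (oddPart_odd hx) (by
    calc x * x = x * x⁻¹ := by rw [← key]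
      _ = 1 := mul_inv_cancel x)

/-- The centralizer of the product of the standard pair lies in the subgroup. -/
theorem cent_standard (M : Emb d) {w : G} (hw : Commute w (d * second Fr)) : w ∈ M.F.range := by
  obtain ⟨hbm, hdb, hdne⟩ := second_facts (M := M) H Fr
  have hb2 := (H.conj_sq hbm.isConj).1
  rcases zstep H.d_sq hb2 H.d_ne (H.conj_sq hbm.isConj).2 hdb hdne (fun g _ => not_swap H Fr M)
    (fun g hg hc => conj_cases H Fr hg hc M) hw with h | h <;>
    have h1 := odd_trivial H Fr M h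
  · refine M.mem_d.range_of_conj ?_
    rw [eq_inv_of_mul_eq_one_right h1, H.d_inv]
  · refine hbm.range_of_conj (k := w) ?_
    rw [← mul_assoc] at h1
    rw [eq_inv_of_mul_eq_one_right h1, mul_assoc d, ← hdb.eq, ← mul_assoc, H.d_sq, one_mul,
      inv_eq_of_mul_eq_one_left hb2]

/-- The centralizer of the product of two commuting members of the subgroup lies in it. -/
theorem cent_pair {a b w : G} (ha : M.Mem a) (hb : M.Mem b) (hab : Commute a b) (hne : a ≠ b)
    (hw : Commute w (a * b)) : w ∈ M.F.range := by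
  obtain ⟨k, hk, hkb⟩ := Frame.pair_trans H Fr ha.isConj hb.isConj hab hne (P 0 (show 0 < 22 by norm_num))
  have hkr : k ∈ M.F.range := ha.range_of_conj hk
  have hw' : Commute (k⁻¹ * w * k) (d * second Fr) := by
    have e : k * (d * second Fr) * k⁻¹ = a * b := by
      rw [← hk, ← hkb, second]; group
    refine (Commute.conj_iff k).1 ?_
    rw [e, show k * (k⁻¹ * w * k) * k⁻¹ = w by group]
    exact hw
  have := mul_mem (mul_mem hkr (cent_standard H Fr M hw')) (inv_mem hkr)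
  rwa [show k * (k⁻¹ * w * k) * k⁻¹ = w by group] at this

end Emb

end Cfsg.Lib.Fischer.Cent23
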