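import Cfsg.Agent.Lib.Fischer.Cent23.Type23

/-!
# The presented Fischer group Fi23 is of type M(23)

The centralizer of the central involution is generated by nine generators; modulo that involution it is Fi22.
-/

set_option autoImplicit false
set_option linter.unusedSectionVars false
set_option maxRecDepth 100000

namespace Cfsg.Lib.Fischer.Cent23

open Cfsg Cfsg.Spor Cfsg.Lib.CosetEnum Cfsg.Lib.CosetEnum.Fi22Two Cfsg.Lib.CosetEnum.Fi22Mult Cfsg.Lib.Fischer
open Cfsg.Lib.Fischer.Relations (primitive_of_simple)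

/-- The nine generators of Fi23 that centralize the central involution. -/
noncomputable def nine23 (g : ℕ) : Cfsg.Spor.Fi23 := if g < 9 then x23 (to23 g) else 1

theorem nine23_val {w : List ℕ} (hw : ∀ g ∈ w, g < 9) : wordVal nine23 w = wordVal x23 (w.map to23) := by
  rw [← map_map_val hw]
  exact val_congr fun g hg => if_pos (hw g hg)

theorem fi22_facts : Finite Cfsg.Spor.Fi22 ∧ IsSimpleGroup Cfsg.Spor.Fi22 ∧ Nat.card Cfsg.Spor.Fi22 = 64561751654400 ∧
    Subgroup.center Cfsg.Spor.Fi22 = ⊥ := by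
  have hFi : Cfsg.IsFi22 Cfsg.Spor.Fi22 := Fi22Pres.isFi22
  have hsimple : IsSimpleGroup Cfsg.Spor.Fi22 := hFi.1
  have hfin : Finite Cfsg.Spor.Fi22 := Nat.finite_of_card_ne_zero (by rw [hFi.2]; decide)
  refine ⟨hfin, hsimple, hFi.2, ((Subgroup.center Cfsg.Spor.Fi22).normal_of_characteristic.eq_bot_or_eq_top).resolve_right
    fun h => ?_⟩
  let : CommGroup Cfsg.Spor.Fi22 := Group.commGroupOfCenterEqTop h
  have := IsSimpleGroup.prime_card (α := Cfsg.Spor.Fi22)
  rw [hFi.2] at this
  exact Nat.not_prime_mul (a := 2) (b := 32280875827200) (by decide) (by decide) this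

/-- The centralizer of the central involution maps onto Fi22 with kernel generated by that involution. -/
theorem exists_proj23 : ∃ π : ↥(Subgroup.centralizer ({delta23} : Set Cfsg.Spor.Fi23)) →* Cfsg.Spor.Fi22,
    Function.Surjective π ∧
      π.ker = (Subgroup.zpowers delta23).subgroupOf (Subgroup.centralizer ({delta23} : Set Cfsg.Spor.Fi23)) ∧
      commutator ↥(Subgroup.centralizer ({delta23} : Set Cfsg.Spor.Fi23)) = ⊤ := by
  obtain ⟨hfin, hs23, hc23⟩ := fi23_facts
  obtain ⟨hfin22, hs22, hcard22, hc22⟩ := fi22_facts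
  obtain ⟨A, hZ, hk, hp, hx, -, hperf, -, hidx, -⟩ := Fi23Out.exists_table
  have hconj : IsConj A.d delta23 := by
    have h0 : IsConj A.d (x23 0) := by
      rw [show x23 = A.x from hx.symm, ← A.delta_pts (g := 0) (by rw [hk]; norm_num)]
      exact (A.isConj_iff_exists _).2 ⟨_, rfl⟩
    exact h0.trans gen_conj23.symm
  obtain ⟨u, hu⟩ := isConj_iff.1 hconj
  set C := Subgroup.centralizer ({delta23} : Set Cfsg.Spor.Fi23) with hCdef
  have hCmap : C = (Subgroup.centralizer ({A.d} : Set Cfsg.Spor.Fi23)).map (MulAut.conj u).toMonoidHom := by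
    ext c
    rw [hCdef, Subgroup.mem_map_equiv, Subgroup.mem_centralizer_singleton_iff, Subgroup.mem_centralizer_singleton_iff,
      MulAut.conj_symm_apply, ← hu]
    constructor
    · intro h
      calc u⁻¹ * c * u * A.d = u⁻¹ * (c * (u * A.d * u⁻¹)) * u := by group
        _ = u⁻¹ * (u * A.d * u⁻¹ * c) * u := by rw [h]
        _ = A.d * (u⁻¹ * c * u) := by group
    · intro h
      calc c * (u * A.d * u⁻¹) = u * (u⁻¹ * c * u * A.d) * u⁻¹ := by group
        _ = u * (A.d * (u⁻¹ * c * u)) * u⁻¹ := by rw [h]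
        _ = u * A.d * u⁻¹ * c := by group
  have hperfC : commutator ↥C = ⊤ := by
    have h1 : C ≤ ⁅C, C⁆ := by
      rw [hCmap, ← Subgroup.map_commutator]
      exact Subgroup.map_mono hperf
    rw [commutator_def, ← (Subgroup.map_injective C.subtype_injective).eq_iff, Subgroup.map_commutator,
      ← MonoidHom.range_eq_map, Subgroup.range_subtype]
    exact le_antisymm (Subgroup.commutator_le_self C) h1
  have hidxC : C.index = 31671 := by
    rw [hCmap]
    exact (Subgroup.index_map_equiv _ (MulAut.conj u)).trans hidx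
  -- the nine generators
  have hxsq : ∀ g, x23 g * x23 g = 1 := Fi23Pres.numbering.gens_mul_self Fi23.extra
  have hysq : ∀ g, nine23 g * nine23 g = 1 := fun g => by
    unfold nine23; split
    exacts [hxsq _, one_mul 1]
  set H := Subgroup.closure (nine23 '' {g | g < 9}) with hHdef
  have hmem : ∀ g, nine23 g ∈ H := fun g => by
    by_cases hg : g < 9
    · exact Subgroup.subset_closure ⟨g, hg, rfl⟩
    · rw [show nine23 g = 1 from if_neg hg]; exact one_mem H
  have hle : H ≤ C := by
    rw [hHdef, Subgroup.closure_le]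
    rintro _ ⟨g, hg, rfl⟩
    rw [SetLike.mem_coe, Subgroup.mem_centralizer_singleton_iff, show nine23 g = x23 (to23 g) from if_pos hg]
    exact (delta23_comm hg).eq.symm
  let y : ℕ → H := fun g => ⟨nine23 g, hmem g⟩
  have hy : ∀ w, ((wordVal y w : H) : Cfsg.Spor.Fi23) = wordVal nine23 w := fun w => map_wordVal H.subtype y w
  have hlt2 : ∀ g ∈ Fi22Pres.extra.getD 2 [], g < 9 := by decide +kernel
  have hright : wordVal nine23 (Fi22Pres.extra.getD 2 []) = delta23 := nine23_val hlt2
  have hdH : delta23 ∈ H := by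
    rw [← hright, ← hy]
    exact (wordVal y _).2
  let c' : H := ⟨delta23, hdH⟩
  have hcc : ∀ a : H, a * c' = c' * a := fun a =>
    Subtype.ext (Subgroup.mem_centralizer_singleton_iff.1 (hle a.2))
  let Z := Subgroup.zpowers c'
  have hZn : Z.Normal := ⟨fun a ha b => by
    rw [Subgroup.mem_center_iff.1 ((Subgroup.zpowers_le.2 (Subgroup.mem_center_iff.2 hcc)) ha) b,
      mul_inv_cancel_right]
    exact ha⟩
  let q := QuotientGroup.mk' Z
  let N := Fi22Pres.numbering
  have hqsq : ∀ g, q (y g) * q (y g) = 1 := fun g => by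
    rw [← map_mul, show y g * y g = 1 from Subtype.ext (hysq g), map_one]
  have hrel : ∀ r ∈ Fi22Pres.numbering.pairs ++ [Fi22Pres.extra.getD 0 [], Fi22Pres.extra.getD 1 []],
      wordVal y r = 1 := by
    intro r hr
    have h := List.all_eq_true.1 rel23 r hr
    simp only [Bool.and_eq_true, List.all_eq_true, Nat.blt_eq, decide_eq_true_eq] at h
    refine Subtype.ext ?_
    rw [hy, nine23_val h.1]
    exact Fi23Pres.numbering.wordVal_gens (by decide) (Fi23Pres.map_extra _ hxsq) _
      ((show Fi23Fi22.cert.R0 = Fi23Pres.numbering.pairs ++ Fi23Pres.extra by decide +kernel) ▸ h.2)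
  have hlift := N.lift_eq_one (by decide) (fun g => q (y g)) (Fi22Pres.map_extra _ hqsq) (by
    intro r hr
    rw [← map_wordVal q y r]
    have hcases : ∀ r ∈ Fi22Pres.numbering.pairs ++ Fi22Pres.extra,
        r ∈ Fi22Pres.numbering.pairs ++ [Fi22Pres.extra.getD 0 [], Fi22Pres.extra.getD 1 []] ∨
          r = Fi22Pres.extra.getD 2 [] := by decide +kernel
    rcases hcases r hr with h | rfl
    · rw [hrel r h, map_one]
    · refine (QuotientGroup.eq_one_iff _).2 ?_
      rw [show wordVal y (Fi22Pres.extra.getD 2 []) = c' from Subtype.ext (by rw [hy, hright])]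
      exact Subgroup.mem_zpowers c')
  let φ : Cfsg.Spor.Fi22 →* H ⧸ Z := PresentedGroup.toGroup hlift
  have hφ : ∀ g < 9, φ (N.gens Fi22.extra g) = q (y g) := fun g hg => by
    rw [Numbering.gens, if_pos (show g < N.k from hg)]
    refine (PresentedGroup.toGroup.of hlift).trans ?_
    rw [N.num_letter g hg]
  have hsurj : Function.Surjective φ := by
    intro a
    obtain ⟨⟨a, ha⟩, rfl⟩ := QuotientGroup.mk'_surjective Z a
    have hle' : H ≤ (φ.range.comap q).map H.subtype := by
      refine (Subgroup.closure_le _).2 ?_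
      rintro _ ⟨g, hg, rfl⟩
      exact ⟨y g, ⟨_, hφ g hg⟩, rfl⟩
    obtain ⟨b, hb, hba⟩ := hle' ha
    obtain ⟨v, hv⟩ := hb
    exact ⟨v, hv.trans (congrArg q (Subtype.ext hba))⟩
  have hinj : Function.Injective φ := by
    rw [← MonoidHom.ker_eq_bot_iff]
    refine (φ.normal_ker.eq_bot_or_eq_top).resolve_right fun h => common23.1 ?_
    have h1 : y 0 ∈ Z := by
      refine (QuotientGroup.eq_one_iff _).1 ?_
      show q (y 0) = 1
      rw [← hφ 0 (by norm_num)]
      exact φ.mem_ker.1 (h ▸ Subgroup.mem_top _)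
    obtain ⟨i, hi⟩ := Subgroup.mem_zpowers_iff.1 h1
    have e : x23 0 = delta23 ^ i := by
      have := congrArg Subtype.val hi
      rw [SubgroupClass.coe_zpow] at this
      exact this.symm
    rw [e]
    exact (delta23_comm (g := 1) (by norm_num)).zpow_left i
  let e := MulEquiv.ofBijective φ ⟨hinj, hsurj⟩
  have hcard : Nat.card H = 2 * 64561751654400 := by
    have : Finite H := inferInstance
    rw [Subgroup.card_eq_card_quotient_mul_card_subgroup Z, ← Nat.card_congr e.toEquiv, hcard22,
      Nat.card_zpowers, ← Subgroup.orderOf_coe c',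
      orderOf_eq_prime (p := 2) (by rw [pow_two]; exact delta23_sq) delta23_ne]
  have heq : H = C := by
    refine Subgroup.eq_of_le_of_card_ge hle ?_
    have e2 := Subgroup.card_mul_index C
    rw [hidxC, (Fi23Pres.isFi23).2] at e2
    omega
  let f : ↥C ≃* ↥H := MulEquiv.subgroupCongr heq.symm
  refine ⟨e.symm.toMonoidHom.comp (q.comp f.toMonoidHom),
    e.symm.surjective.comp ((QuotientGroup.mk'_surjective Z).comp f.surjective), ?_, hperfC⟩
  ext a
  rw [MonoidHom.mem_ker, Subgroup.mem_subgroupOf]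
  show e.symm (q (f a)) = 1 ↔ _
  rw [EmbeddingLike.map_eq_one_iff, show q (f a) = ((f a : H) : H ⧸ Z) from rfl, QuotientGroup.eq_one_iff]
  constructor
  · intro h
    obtain ⟨i, hi⟩ := Subgroup.mem_zpowers_iff.1 h
    exact Subgroup.mem_zpowers_iff.2 ⟨i, by rw [← show ((f a : H) : Cfsg.Spor.Fi23) = a from rfl, ← hi]; rfl⟩
  · intro h
    obtain ⟨i, hi⟩ := Subgroup.mem_zpowers_iff.1 h
    exact Subgroup.mem_zpowers_iff.2 ⟨i, Subtype.ext (by rw [SubgroupClass.coe_zpow]; exact hi)⟩

/-- The presented Fischer group Fi23 with the class of its central involution is of type M(23). -/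
theorem fi23_type : Cfsg.IsThreeTranspositionClass (conjugatesOf delta23) ∧
    Cfsg.IsPrimitiveUnderConj (conjugatesOf delta23) ∧ Cfsg.IsOfTypeM23 Cfsg.Spor.Fi23 (conjugatesOf delta23) := by
  obtain ⟨hfin, hs23, hc23⟩ := fi23_facts
  obtain ⟨hfin22, hs22, hcard22, hc22⟩ := fi22_facts
  obtain ⟨π, hπ, hker, hperf⟩ := exists_proj23
  have hd : orderOf delta23 = 2 := orderOf_eq_prime (by rw [pow_two]; exact delta23_sq) delta23_ne
  obtain ⟨D, -, hcls, -, h22⟩ := Fi22Type.fi22_type
  have hcen : Subgroup.center ↥(Subgroup.centralizer ({delta23} : Set Cfsg.Spor.Fi23)) = π.ker := by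
    refine le_antisymm (fun c hc => ?_) fun c hc => ?_
    · have h1 : π c ∈ Subgroup.center Cfsg.Spor.Fi22 := by
        rw [Subgroup.mem_center_iff]
        intro v
        obtain ⟨b, rfl⟩ := hπ v
        rw [← map_mul, Subgroup.mem_center_iff.1 hc b, map_mul]
      rwa [hc22, Subgroup.mem_bot] at h1
    · rw [hker, Subgroup.mem_subgroupOf] at hc
      obtain ⟨i, hi⟩ := Subgroup.mem_zpowers_iff.1 hc
      refine Subgroup.mem_center_iff.2 fun g => Subtype.ext ?_
      show (g : Cfsg.Spor.Fi23) * c = c * g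
      rw [← hi]
      exact (Commute.zpow_right (Subgroup.mem_centralizer_singleton_iff.1 g.2) i).eq
  have hq : Cfsg.IsQuasisimple ↥(Subgroup.centralizer ({delta23} : Set Cfsg.Spor.Fi23)) :=
    ⟨Group.isPerfect_def.2 hperf, ((QuotientGroup.quotientMulEquivOfEq hcen).trans
      (QuotientGroup.quotientKerEquivOfSurjective π hπ)).isSimpleGroup⟩
  have hne0 : x23 0 ≠ delta23 := fun h => common23.1 (by rw [h]; exact delta23_comm (g := 1) (by norm_num))
  obtain ⟨w, hw⟩ := isConj_iff.1 gen_conj23
  obtain ⟨z, hH⟩ := hyp_of hd hq π hπ hker hcls h22 ⟨w, by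
    rw [hw, Subgroup.mem_centralizer_singleton_iff]
    exact (delta23_comm (g := 0) (by norm_num)).eq.symm, by rw [hw]; exact hne0⟩
  obtain ⟨h1, h2⟩ := type23 hH
  exact ⟨h1, primitive_of_simple (trans_of_class h1) ⟨delta23, mem_conjugatesOf_self, x23 0,
    gen_conj23, fun h => hne0 h.symm⟩ hc23, h2⟩

end Cfsg.Lib.Fischer.Cent23
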