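/-! Generated points and words. -/

set_option autoImplicit false

namespace Cfsg.Lib.Fischer.Cent23

/-- Words moving the first point to the points in use. -/
def moveTab : List (Nat × List Nat) :=
  [(0, []),
    (2, [1, 0]),
    (6, [1, 0, 2, 1]),
    (13, [1, 2, 3, 4, 5]),
    (15, [1, 2, 3, 7, 8]),
    (16, [1, 0, 2, 1, 3, 2]),
    (22, [1, 2, 3, 4, 5, 6]),
    (40, [1, 0, 2, 1, 3, 2, 4, 3]),
    (43, [1, 0, 2, 1, 3, 2, 7, 3]),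
    (59, [1, 2, 3, 4, 7, 3, 2, 1]),
    (81, [1, 2, 3, 4, 5, 7, 3, 2, 1]),
    (86, [1, 2, 3, 4, 7, 3, 2, 1, 8]),
    (88, [1, 0, 2, 1, 3, 2, 4, 3, 5, 4]),
    (92, [1, 0, 2, 1, 3, 2, 7, 3, 8, 7]),
    (95, [1, 0, 2, 1, 3, 4, 5, 7, 3, 4]),
    (97, [1, 0, 2, 1, 3, 4, 7, 3, 8, 7]),
    (106, [1, 2, 3, 4, 5, 6, 7, 3, 2, 1]),
    (120, [1, 0, 2, 1, 3, 2, 4, 3, 5, 4, 6]),
    (122, [1, 0, 2, 1, 3, 4, 5, 6, 7, 3, 4]),
    (154, [1, 0, 2, 1, 3, 2, 4, 3, 5, 4, 6, 5]),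
    (155, [1, 0, 2, 1, 3, 4, 5, 6, 7, 3, 4, 5]),
    (165, [1, 0, 2, 3, 4, 5, 7, 3, 2, 4, 3, 7]),
    (170, [1, 0, 2, 3, 4, 7, 3, 2, 8, 7, 3, 4]),
    (196, [1, 0, 2, 1, 3, 4, 5, 6, 7, 3, 4, 5, 8]),
    (200, [1, 0, 2, 3, 4, 5, 6, 7, 3, 2, 4, 3, 7]),
    (207, [1, 0, 2, 3, 4, 5, 7, 3, 2, 4, 3, 7, 8]),
    (212, [1, 0, 2, 3, 4, 7, 3, 2, 8, 7, 3, 4, 5]),
    (252, [1, 0, 2, 3, 4, 5, 6, 7, 3, 2, 4, 3, 7, 8]),
    (265, [1, 0, 2, 3, 4, 7, 3, 2, 8, 7, 3, 4, 5, 6]),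
    (315, [1, 0, 2, 3, 4, 5, 6, 7, 3, 2, 4, 3, 5, 4, 8]),
    (369, [1, 2, 3, 4, 5, 7, 3, 2, 1, 4, 3, 2, 7, 3, 4]),
    (392, [1, 2, 3, 4, 7, 3, 2, 1, 8, 7, 3, 2, 4, 3, 7]),
    (424, [1, 2, 3, 4, 5, 6, 7, 3, 2, 1, 4, 3, 2, 5, 4, 3]),
    (430, [1, 2, 3, 4, 5, 6, 7, 3, 2, 1, 4, 3, 2, 7, 3, 4]),
    (472, [1, 2, 3, 4, 5, 7, 3, 2, 1, 4, 3, 2, 7, 3, 4, 5]),
    (473, [1, 2, 3, 4, 5, 7, 3, 2, 1, 4, 3, 2, 7, 3, 4, 8]),
    (545, [1, 2, 3, 4, 5, 6, 7, 3, 2, 1, 4, 3, 2, 7, 3, 4, 8]),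
    (637, [1, 0, 2, 3, 4, 5, 6, 7, 3, 2, 4, 3, 5, 4, 7, 3, 2, 1]),
    (792, [1, 0, 2, 1, 3, 4, 5, 6, 7, 3, 4, 5, 8, 7, 3, 2, 4, 3, 7]),
    (1119, [1, 2, 3, 4, 5, 7, 3, 2, 1, 4, 3, 2, 7, 3, 8, 7, 3, 2, 1, 0]),
    (1187, [1, 2, 3, 4, 5, 6, 7, 3, 2, 1, 4, 3, 2, 7, 3, 8, 7, 3, 2, 1, 0]),
    (1359, [1, 2, 3, 4, 5, 6, 7, 3, 2, 1, 4, 3, 2, 5, 7, 3, 8, 7, 3, 2, 1, 0]),
    (2125, [1, 2, 3, 4, 5, 6, 7, 3, 2, 1, 4, 3, 2, 5, 4, 3, 8, 7, 3, 2, 1, 0, 4, 3, 2, 1]),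
    (2179, [1, 2, 3, 4, 5, 6, 7, 3, 2, 1, 4, 3, 2, 5, 7, 3, 8, 7, 3, 2, 1, 0, 4, 3, 2, 1])]

/-- Points commuting with the five in branch 0. -/
def perpFive0 : List Nat := [88, 120, 154, 369, 430, 472]

/-- Points commuting with the first four only in branch 0. -/
def outFive0 : List Nat := [92, 392, 473, 545]

/-- Points commuting with the last four only in branch 0. -/
def headFive0 : List Nat := [15, 170, 212, 265]

/-- Points failing to commute with the second only in branch 0. -/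
def midFive0 : List Nat := [0, 59, 81, 95, 106, 122, 155, 637]

/-- Points commuting with the five in branch 1. -/
def perpFive1 : List Nat := [92, 154, 392, 472]

/-- Points commuting with the first four only in branch 1. -/
def outFive1 : List Nat := [88, 120, 369, 430, 473, 545]

/-- Points commuting with the last four only in branch 1. -/
def headFive1 : List Nat := [13, 22, 165, 200, 207, 252]

/-- Points failing to commute with the second only in branch 1. -/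
def midFive1 : List Nat := [0, 59, 86, 97, 155, 196, 637, 792, 2125, 2179]

/-- Points commuting with the five in branch 2. -/
def perpFive2 : List Nat := [88, 120, 154, 369, 430, 472]

/-- Points commuting with the first four only in branch 2. -/
def outFive2 : List Nat := [92, 392, 473, 545]

/-- Points commuting with the last four only in branch 2. -/
def headFive2 : List Nat := [315, 1119, 1187, 1359]

/-- Points failing to commute with the second only in branch 2. -/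
def midFive2 : List Nat := [0, 59, 81, 95, 106, 122, 155, 637]

end Cfsg.Lib.Fischer.Cent23
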