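import Cfsg.Agent.Lib.CosetEnum.Fi22Out.Nodes
import Cfsg.Agent.Lib.CosetEnum.Fi22Out.Data
import Cfsg.Agent.Lib.CosetEnum.Fi22U62.Data
import Cfsg.Agent.Lib.Fischer.Cent23.ScanData

/-! Kernel checks on configurations of transpositions of Fi22. -/

set_option autoImplicit false
set_option maxRecDepth 100000

namespace Cfsg.Lib.Fischer.Cent23

open Cfsg.Lib.CosetEnum Cfsg.Lib.CosetEnum.Fi22Out Cfsg.Lib.CosetEnum.Fi22U62

/-- The word moving the first point to a point. -/
def moveWord (p : Nat) : List Nat :=
  ((moveTab.find? fun e => Nat.beq e.1 p).map Prod.snd).getD []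

/-- The word of the transposition of a point. -/
def tword (p : Nat) : List Nat := conjWord (moveWord p)

/-- The transposition of the first point fixes the second. -/
noncomputable def fixP (p q : Nat) : Bool := Nat.beq (twalk tabP 9 (tword p) q) q

/-- The fifth point of a branch. -/
def fifth (i : Nat) : Nat := pts.getD ([7, 4, 9].getD i 0) 0

/-- The words are in order. -/
noncomputable def tableOK : Bool :=
  moveTab.all fun e => ((moveWord e.1).all fun g => Nat.blt g 9) &&
    Nat.beq (twalk tabP 9 (moveWord e.1) (pts.getD 0 0)) e.1

theorem table_ok : tableOK = true := by decide +kernel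

/-- The lists of a branch. -/
def listOf (i : Nat) : Nat → List Nat
  | 0 => [perpFive0, perpFive1, perpFive2].getD i []
  | 1 => [outFive0, outFive1, outFive2].getD i []
  | 2 => [headFive0, headFive1, headFive2].getD i []
  | _ => [midFive0, midFive1, midFive2].getD i []

/-- The conditions defining the lists. -/
def condOf (i : Nat) : Nat → List (List Nat × Bool)
  | 0 => [(tword 0, true), (tword 2, true), (tword 6, true), (tword 16, true), (tword (fifth i), true)]
  | 1 => [(tword 0, true), (tword 2, true), (tword 6, true), (tword 16, true), (tword (fifth i), false)]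
  | 2 => [(tword 0, false), (tword 2, true), (tword 6, true), (tword 16, true), (tword (fifth i), true)]
  | _ => [(tword 0, true), (tword 2, false), (tword 6, true), (tword 16, true), (tword (fifth i), true)]

/-- Everything listed is in the table. -/
noncomputable def inTable (p : Nat) : Bool := moveTab.any fun e => Nat.beq e.1 p

theorem listed_ok : ((List.range 3).all fun i => inTable (fifth i) && (List.range 4).all fun j =>
    (listOf i j).all inTable) = true ∧ ([0, 2, 6, 16].all inTable) = true := by decide +kernel

theorem scan00_ok : scanOK tabP 9 (condOf 0 0) (elemN (listOf 0 0)) 3510 0 = true := by decide +kernel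
theorem scan01_ok : scanOK tabP 9 (condOf 0 1) (elemN (listOf 0 1)) 3510 0 = true := by decide +kernel
theorem scan02_ok : scanOK tabP 9 (condOf 0 2) (elemN (listOf 0 2)) 3510 0 = true := by decide +kernel
theorem scan03_ok : scanOK tabP 9 (condOf 0 3) (elemN (listOf 0 3)) 3510 0 = true := by decide +kernel
theorem scan10_ok : scanOK tabP 9 (condOf 1 0) (elemN (listOf 1 0)) 3510 0 = true := by decide +kernel
theorem scan11_ok : scanOK tabP 9 (condOf 1 1) (elemN (listOf 1 1)) 3510 0 = true := by decide +kernel
theorem scan12_ok : scanOK tabP 9 (condOf 1 2) (elemN (listOf 1 2)) 3510 0 = true := by decide +kernel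
theorem scan13_ok : scanOK tabP 9 (condOf 1 3) (elemN (listOf 1 3)) 3510 0 = true := by decide +kernel
theorem scan20_ok : scanOK tabP 9 (condOf 2 0) (elemN (listOf 2 0)) 3510 0 = true := by decide +kernel
theorem scan21_ok : scanOK tabP 9 (condOf 2 1) (elemN (listOf 2 1)) 3510 0 = true := by decide +kernel
theorem scan22_ok : scanOK tabP 9 (condOf 2 2) (elemN (listOf 2 2)) 3510 0 = true := by decide +kernel
theorem scan23_ok : scanOK tabP 9 (condOf 2 3) (elemN (listOf 2 3)) 3510 0 = true := by decide +kernel

/-- A chain of seven with an isolated point: the new member commutes with the second. -/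
noncomputable def chainOK (i : Nat) : Bool :=
  (listOf i 0).all fun a => (listOf i 0).all fun e => (listOf i 2).all fun b => (listOf i 1).all fun z =>
    !(fixP a e && !fixP b a && fixP b e && fixP a z && !fixP e z) || fixP b z

/-- The word of the Coxeter element of seven points to the ninth power. -/
def sevenWord (l : List Nat) : List Nat := (List.replicate 9 l).flatten.flatMap tword

/-- Seven of type E7 with the ninth power of the Coxeter element the isolated point: there is an extension. -/
noncomputable def forkOK (i : Nat) : Bool :=
  (listOf i 0).all fun j => (listOf i 3).all fun h => (listOf i 0).all fun e =>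
    !(!fixP h j && fixP h e && fixP j e) ||
      ((listOf i 1).any fun z => fixP h z && fixP j z && !fixP e z) ||
      ((List.range 9).any fun g => !Nat.beq (twalk tabP 9 (sevenWord [j, h, fifth i, 16, 6, 2, 0]) (pts.getD g 0))
        (twalk tabP 9 (tword e) (pts.getD g 0)))

theorem chain_ok : ((List.range 3).all chainOK) = true := by decide +kernel

theorem fork0_ok : forkOK 0 = true := by decide +kernel
theorem fork1_ok : forkOK 1 = true := by decide +kernel
theorem fork2_ok : forkOK 2 = true := by decide +kernel

end Cfsg.Lib.Fischer.Cent23
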