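import Cfsg.Agent.Lib.Fischer.Cent23.Iso
import Cfsg.Agent.Lib.Fischer.Fi23Type.Refl
import Cfsg.Agent.Lib.Fischer.Fi23Type.Common

/-!
# A group with such a centralizer of an involution is of type M(23)
-/

set_option autoImplicit false
set_option linter.unusedSectionVars false
set_option maxRecDepth 100000

namespace Cfsg.Lib.Fischer.Cent23

open Cfsg Cfsg.Lib.CosetEnum Cfsg.Lib.CosetEnum.Fi22Two Cfsg.Lib.CosetEnum.Fi22Mult Cfsg.Lib.Fischer
open Cfsg.Lib.Fischer.Fi22Type (map_center_equiv)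

section Transport

variable {A : Type*} [Group A] {B : Type*} [Group B]

theorem image_conjugatesOf (e : A ≃* B) (a : A) : e '' conjugatesOf a = conjugatesOf (e a) := by
  ext b
  constructor
  · rintro ⟨w, hw, rfl⟩
    obtain ⟨c, rfl⟩ := isConj_iff.1 hw
    exact isConj_iff.2 ⟨e c, by simp⟩
  · intro hb
    obtain ⟨c, rfl⟩ := isConj_iff.1 hb
    exact ⟨_, isConj_iff.2 ⟨e.symm c, rfl⟩, by simp⟩

theorem image_perp (e : A ≃* B) (D : Set A) (a : A) : e '' perp D a = perp (e '' D) (e a) := by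
  ext b
  constructor
  · rintro ⟨w, ⟨h1, h2, h3⟩, rfl⟩
    exact ⟨⟨w, h1, rfl⟩, fun h => h2 (e.injective h), h3.map e⟩
  · rintro ⟨⟨w, h1, rfl⟩, h2, h3⟩
    exact ⟨w, ⟨h1, fun h => h2 (congrArg e h), e.injective (by rw [map_mul, map_mul]; exact h3.eq)⟩, rfl⟩

/-- The central quotient of a closure goes along an isomorphism. -/
theorem quot_image (e : A ≃* B) (S : Set A) (T : Set B) (hT : e '' S = T) :
    Nonempty (↥(Subgroup.closure S) ⧸ Subgroup.center ↥(Subgroup.closure S) ≃*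
      ↥(Subgroup.closure T) ⧸ Subgroup.center ↥(Subgroup.closure T)) := by
  subst hT
  have hmap : (Subgroup.closure S).map (e : A →* B) = Subgroup.closure (e '' S) := MonoidHom.map_closure _ _
  let f : ↥(Subgroup.closure S) ≃* ↥(Subgroup.closure (e '' S)) :=
    (e.subgroupMap (Subgroup.closure S)).trans (MulEquiv.subgroupCongr hmap)
  exact ⟨QuotientGroup.congr _ _ f (map_center_equiv f)⟩

theorem class_map (e : A ≃* B) {D : Set A} (h : Cfsg.IsThreeTranspositionClass D) :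
    Cfsg.IsThreeTranspositionClass (e '' D) := by
  obtain ⟨⟨h1, h2⟩, ⟨a, ha, rfl⟩, h4⟩ := h
  refine ⟨⟨?_, ?_⟩, ⟨e a, ⟨a, ha, rfl⟩, image_conjugatesOf e a⟩, ?_⟩
  · rintro _ ⟨u, hu, rfl⟩
    rw [e.orderOf_eq]; exact h1 u hu
  · rintro _ ⟨u, hu, rfl⟩ _ ⟨v, hv, rfl⟩
    rw [← map_mul, ← map_pow, ← map_pow]
    exact (h2 u hu v hv).imp (fun h => by rw [h, map_one]) fun h => by rw [h, map_one]
  · rw [show e '' conjugatesOf a = (e : A →* B) '' conjugatesOf a from rfl, ← MonoidHom.map_closure, h4,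
      ← MonoidHom.range_eq_map, MonoidHom.range_eq_top.2 e.surjective]

theorem type22_map (e : A ≃* B) {D : Set A} (h : Cfsg.IsOfTypeM22 A D) : Cfsg.IsOfTypeM22 B (e '' D) := by
  obtain ⟨hZ, a, ha, c, hc, hnc, ⟨F, i1, i2, hF, ⟨eH⟩⟩, k, hk, Q, hQ1, hQ2, ⟨eL⟩⟩ := h
  refine ⟨by rw [← map_center_equiv e, hZ, Subgroup.map_bot], e a, ⟨a, ha, rfl⟩, e c, ⟨c, hc, rfl⟩,
    fun h => hnc (e.injective (by rw [map_mul, map_mul]; exact h.eq)), ⟨F, i1, i2, hF, ?_⟩, k, hk, Q, hQ1, hQ2, ?_⟩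
  · obtain ⟨f⟩ := quot_image e (perp D a) (perp (e '' D) (e a)) (image_perp e D a)
    exact ⟨f.symm.trans eH⟩
  · obtain ⟨f⟩ := quot_image e (perp D a ∩ perp D c) (perp (e '' D) (e a) ∩ perp (e '' D) (e c))
      (by rw [Set.image_inter e.injective, image_perp, image_perp])
    exact ⟨f.symm.trans eL⟩

end Transport

variable {G : Type*} [Group G] [Finite G] {d : G} {Q : Type*} [Group Q] [Finite Q] {E : Set Q}
  {π : ↥(Subgroup.centralizer ({d} : Set G)) →* Q} {z : ↥(Subgroup.centralizer ({d} : Set G))}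

/-- The common neighbours of the first two generators of Fi23 modulo centre. -/
theorem common23 : (¬ Commute (x23 0) (x23 1)) ∧ IsConj delta23 (x23 1) ∧
    Nonempty (↥(Subgroup.closure (perp (conjugatesOf delta23) (x23 0) ∩ perp (conjugatesOf delta23) (x23 1))) ⧸
      Subgroup.center ↥(Subgroup.closure (perp (conjugatesOf delta23) (x23 0) ∩ perp (conjugatesOf delta23) (x23 1)))
        ≃* ↥(Cfsg.reflectionSubgroup Fi23Type.qPath (1 : ZMod 3)) ⧸
          Subgroup.center ↥(Cfsg.reflectionSubgroup Fi23Type.qPath (1 : ZMod 3))) := by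
  obtain ⟨A, hZ, hk, hp, hx, -⟩ := Fi23Out.exists_table
  have hxe : x23 = A.x := hx.symm
  have hk0 : 0 < A.k := by rw [hk]; norm_num
  have hk1 : 1 < A.k := by rw [hk]; norm_num
  have hd : conjugatesOf delta23 = conjugatesOf A.d := by
    have h0 : IsConj A.d (x23 0) := by
      rw [hxe, ← A.delta_pts hk0]
      exact (A.isConj_iff_exists _).2 ⟨_, rfl⟩
    exact gen_conj23.conjugatesOf_eq.trans h0.conjugatesOf_eq.symm
  refine ⟨?_, ?_, ?_⟩
  · intro h
    rw [hxe] at h
    have h' := h.symm.eq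
    rw [← A.delta_pts hk0, A.commute_gen_iff hk1, hZ, hk] at h'
    simp only [hp] at h'
    exact noncomm23 h'
  · have : x23 1 ∈ conjugatesOf delta23 := by
      rw [hd, hxe, ← A.delta_pts hk1]
      exact (A.isConj_iff_exists _).2 ⟨_, rfl⟩
    exact this
  · rw [hd, hxe]
    obtain ⟨f⟩ := Fi23Type.common_quot A hZ hk hp
    obtain ⟨g⟩ := Fi23Type.refl_quot
    exact ⟨f.trans g.symm⟩

/-- The neighbours of `d` generate its centralizer. -/
theorem closure_perp (H : Hyp d E π z) (Fr : Frame E π z) :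
    Subgroup.closure (perp (conjugatesOf d) d) = Subgroup.centralizer ({d} : Set G) := by
  refine le_antisymm ((Subgroup.closure_le _).2 fun y hy => Subgroup.mem_centralizer_singleton_iff.2 hy.2.2.eq.symm) ?_
  obtain ⟨S, hS⟩ : ∃ S : Subgroup ↥(Subgroup.centralizer ({d} : Set G)),
      S = (Subgroup.closure (perp (conjugatesOf d) d)).subgroupOf (Subgroup.centralizer ({d} : Set G)) := ⟨_, rfl⟩
  have hY : ∀ p, Fr.L.Y p ∈ S := fun p => by
    rw [hS, Subgroup.mem_subgroupOf]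
    refine Subgroup.subset_closure ⟨(Fr.mem_iff _).2 (Or.inr ⟨p, rfl⟩), fun e => ?_, ?_⟩
    · exact (Frame.lift_ne H Fr p).1 (Subtype.ext (e.trans H.z_val.symm))
    · exact (Subgroup.mem_centralizer_singleton_iff.1 (Fr.L.Y p).2).symm
  have hz : z ∈ S := by
    rw [← Frame.hexad_prod H Fr]
    exact mul_mem (mul_mem (mul_mem (mul_mem (mul_mem (hY _) (hY _)) (hY _)) (hY _)) (hY _)) (hY _)
  have hmap : (⊤ : Subgroup Q) ≤ S.map π := by
    rw [← Fr.T.A.gen, Subgroup.closure_le]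
    rintro _ ⟨g, hg, rfl⟩
    exact ⟨_, hY ⟨_, Fr.T.A.pts_lt hg⟩, by rw [Fr.L.proj, Fr.T.A.delta_pts hg]⟩
  intro c hc
  obtain ⟨b, hb, e⟩ := hmap (Subgroup.mem_top (π ⟨c, hc⟩))
  have hcS : (⟨c, hc⟩ : ↥(Subgroup.centralizer ({d} : Set G))) ∈ S := by
    rcases H.hd.eq_or e.symm with h | h <;> rw [h]
    exacts [hb, mul_mem hb hz]
  rwa [hS, Subgroup.mem_subgroupOf] at hcS

/-- The neighbourhood modulo its centre is of type M(22). -/
theorem nbr_type22 (H : Hyp d E π z) (Fr : Frame E π z) :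
    Cfsg.IsOfTypeM22
      (↥(Subgroup.closure (perp (conjugatesOf d) d)) ⧸ Subgroup.center ↥(Subgroup.closure (perp (conjugatesOf d) d)))
      ((QuotientGroup.mk : ↥(Subgroup.closure (perp (conjugatesOf d) d)) → _) ''
        {x : ↥(Subgroup.closure (perp (conjugatesOf d) d)) | (x : G) ∈ perp (conjugatesOf d) d}) := by
  let f : ↥(Subgroup.closure (perp (conjugatesOf d) d)) ≃* ↥(Subgroup.centralizer ({d} : Set G)) :=
    MulEquiv.subgroupCongr (closure_perp H Fr)
  let φ := π.comp f.toMonoidHom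
  have hφ : Function.Surjective φ := H.hd.surj.comp f.surjective
  have hker : φ.ker = Subgroup.center ↥(Subgroup.closure (perp (conjugatesOf d) d)) := by
    ext x
    rw [MonoidHom.mem_ker]
    constructor
    · intro h
      rw [Subgroup.mem_center_iff]
      intro y
      refine f.injective ?_
      rw [map_mul, map_mul]
      rcases (H.hd.ker_iff (f x)).1 h with e | e <;> rw [e]
      · rw [one_mul, mul_one]
      · exact (H.hd.central (f y)).eq.symm
    · intro h
      have h1 : φ x ∈ Subgroup.center Q := by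
        rw [Subgroup.mem_center_iff]
        intro q
        obtain ⟨y, rfl⟩ := hφ q
        rw [← map_mul, Subgroup.mem_center_iff.1 h y, map_mul]
      rwa [H.type22.1, Subgroup.mem_bot] at h1
  let q := (QuotientGroup.quotientMulEquivOfEq hker.symm).trans (QuotientGroup.quotientKerEquivOfSurjective φ hφ)
  have hq : ∀ x, q (QuotientGroup.mk x) = π (f x) := fun x => rfl
  have himg : q '' ((QuotientGroup.mk : ↥(Subgroup.closure (perp (conjugatesOf d) d)) → _) ''
      {x : ↥(Subgroup.closure (perp (conjugatesOf d) d)) | (x : G) ∈ perp (conjugatesOf d) d}) = E := by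
    ext u
    constructor
    · rintro ⟨_, ⟨x, hx, rfl⟩, rfl⟩
      rw [hq]
      rcases (Fr.mem_iff (f x)).1 hx.1 with e | ⟨p, e⟩
      · exact absurd ((congrArg Subtype.val e).trans H.z_val) hx.2.1
      · rw [← e, Fr.L.proj]; exact Frame.delta_mem H Fr p
    · intro hu
      obtain ⟨p, rfl⟩ := (Fr.T.A.isConj_iff_exists u).1 ((Set.ext_iff.1 Fr.T.class_eq u).2 hu)
      have hmem : (Fr.L.Y p : G) ∈ perp (conjugatesOf d) d :=
        ⟨(Fr.mem_iff _).2 (Or.inr ⟨p, rfl⟩), fun e => (Frame.lift_ne H Fr p).1 (Subtype.ext (e.trans H.z_val.symm)),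
          (Subgroup.mem_centralizer_singleton_iff.1 (Fr.L.Y p).2).symm⟩
      refine ⟨_, ⟨⟨(Fr.L.Y p : G), Subgroup.subset_closure hmem⟩, hmem, rfl⟩, ?_⟩
      rw [hq]
      exact (congrArg π (Subtype.ext rfl : f ⟨(Fr.L.Y p : G), _⟩ = Fr.L.Y p)).trans (Fr.L.proj p)
  have h := type22_map q.symm H.type22
  conv at h => arg 2; rw [← himg]
  rw [← Set.image_comp] at h
  simpa using h

/-- The class of `d` is a class of 3-transpositions and the group is of type M(23). -/
theorem type23 (H : Hyp d E π z) :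
    Cfsg.IsThreeTranspositionClass (conjugatesOf d) ∧ Cfsg.IsOfTypeM23 G (conjugatesOf d) := by
  obtain ⟨Fr⟩ := exists_frame H
  obtain ⟨e, he⟩ := exists_iso H
  refine ⟨?_, ?_⟩
  · rw [← he, ← image_conjugatesOf]
    exact class_map e class23.1
  obtain ⟨u, hu⟩ := isConj_iff.1 gen_conj23
  obtain ⟨hnc, hc1, ⟨f⟩⟩ := common23
  let i : Cfsg.Spor.Fi23 ≃* G := (MulAut.conj u⁻¹).trans e
  have hi0 : i (x23 0) = d := by
    show e (u⁻¹ * x23 0 * u⁻¹⁻¹) = d
    rw [← he, ← hu]; group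
  have hD : i '' conjugatesOf delta23 = conjugatesOf d := by
    rw [image_conjugatesOf, ← he]
    refine (IsConj.conjugatesOf_eq ?_)
    show IsConj (e (u⁻¹ * delta23 * u⁻¹⁻¹)) (e delta23)
    exact isConj_iff.2 ⟨e u, by simp only [← map_inv, ← map_mul]; congr 1; group⟩
  refine ⟨by rw [← map_center_equiv e, fi23_facts.2.2, Subgroup.map_bot], d, mem_conjugatesOf_self, i (x23 1),
    hD ▸ ⟨_, hc1, rfl⟩, fun h => hnc (i.injective (by rw [map_mul, map_mul, hi0]; exact h.eq)),
    nbr_type22 H Fr, 1, one_ne_zero, Fi23Type.formPath, Fi23Type.formPath_nondegenerate, Fi23Type.formPath_det, ?_⟩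
  obtain ⟨g⟩ := quot_image i (perp (conjugatesOf delta23) (x23 0) ∩ perp (conjugatesOf delta23) (x23 1))
    (perp (conjugatesOf d) d ∩ perp (conjugatesOf d) (i (x23 1)))
    (by rw [Set.image_inter i.injective, image_perp, image_perp, hD, hi0])
  exact ⟨g.symm.trans f⟩

end Cfsg.Lib.Fischer.Cent23
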