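import Cfsg.Agent.Lib.Fischer.Cent23.Pair
import Cfsg.Agent.Lib.Invol.Basic

/-!
# The embedded Fi23 is the whole group

A member outside would centralize an involution of the subgroup that is a product of three of the twenty-three,
and moving one of the three to a fourth through that member gives a relation of length five.
-/

set_option autoImplicit false
set_option linter.unusedSectionVars false
set_option maxRecDepth 100000

namespace Cfsg.Lib.Fischer.Cent23

open Cfsg Cfsg.Lib.CosetEnum Cfsg.Lib.CosetEnum.Fi22Two Cfsg.Lib.Fischer Cfsg.Lib.Fischer.Relations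

/-- The index lists of one, two or three of the twenty-three. -/
def subsets23 : List (List ℕ) :=
  ((List.range 23).map fun i => [i]) ++
    ((List.range 23).flatMap fun i => ((List.range 23).filter fun j => Nat.blt i j).map fun j => [i, j]) ++
    ((List.range 23).flatMap fun i => ((List.range 23).filter fun j => Nat.blt i j).flatMap fun j =>
      ((List.range 23).filter fun k => Nat.blt j k).map fun k => [i, j, k])

/-- The coordinates of the twenty-three. -/
def vec23 (f j : ℕ) : ℕ := if j < 22 then coord.getD j 0 ^^^ f else 1024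

/-- The sum of the coordinates of a list. -/
def sum23 (f : ℕ) (l : List ℕ) : ℕ := (l.map (vec23 f)).foldr Nat.xor 0

/-- The set of the sums, as bits. -/
def bits23 (f : ℕ) : ℕ := (subsets23.map (sum23 f)).foldr (fun v m => m ||| 1 <<< v) 0

theorem bits23_full : bits23 0 = 2 ^ 2048 - 2 ∧ bits23 1024 = 2 ^ 2048 - 2 := by decide +kernel

theorem mem_of_testBit : ∀ (l : List ℕ) {w : ℕ},
    (l.foldr (fun v m => m ||| 1 <<< v) 0).testBit w = true → w ∈ l
  | [], w, h => by simp at h
  | v :: l, w, h => by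
    rw [List.foldr_cons, Nat.testBit_or, Bool.or_eq_true, Nat.one_shiftLeft, Nat.testBit_two_pow] at h
    rcases h with h | h
    · exact List.mem_cons_of_mem _ (mem_of_testBit l h)
    · rw [decide_eq_true_eq] at h; exact h ▸ List.mem_cons_self

/-- Every nonzero vector is the sum of one, two or three of the twenty-three. -/
theorem exists_subset23 {f v : ℕ} (hf : f = 0 ∨ f = 1024) (hv : v < 2048) (hv0 : v ≠ 0) :
    ∃ l ∈ subsets23, sum23 f l = v := by
  obtain ⟨v, rfl⟩ := Nat.exists_eq_succ_of_ne_zero hv0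
  have hb : (bits23 f).testBit (v + 1) = true := by
    have e : bits23 f = 2 ^ 2048 - (1 + 1) := by
      rcases hf with rfl | rfl
      exacts [bits23_full.1, bits23_full.2]
    rw [e, Nat.testBit_two_pow_sub_succ (Nat.lt_two_pow_self.trans' (by norm_num)), Nat.testBit_succ]
    simp [hv]
  exact List.mem_map.1 (mem_of_testBit _ hb)

theorem subsets23_spec : ∀ l ∈ subsets23, (∀ i ∈ l, i < 23) ∧ l.Nodup ∧ 1 ≤ l.length ∧ l.length ≤ 3 := by
  decide +kernel

theorem vec23_inj : ∀ f ∈ [0, 1024], ∀ i < 23, ∀ j < 23, vec23 f i = vec23 f j → i = j := by decide +kernel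

theorem vec23_lt : ∀ f ∈ [0, 1024], ∀ i < 23, vec23 f i < 2048 := by decide +kernel

/-- A product with the other of two involutions inside their dihedral group is conjugate to one of them. -/
theorem mul_pow_conj {G : Type*} [Group G] {x y : G} (hx : x * x = 1) (hy : y * y = 1) :
    ∀ k : ℕ, IsConj x (x * (x * y) ^ k) ∨ IsConj y (x * (x * y) ^ k)
  | 0 => Or.inl (by rw [pow_zero, mul_one])
  | 1 => Or.inr (by rw [pow_one, ← mul_assoc, hx, one_mul])
  | k + 2 => by
    have e : (x * y)⁻¹ * (x * (x * y) ^ k) * (x * y) = x * (x * y) ^ (k + 2) := by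
      rw [mul_inv_rev, inv_eq_of_mul_eq_one_left hx, inv_eq_of_mul_eq_one_left hy, pow_succ, pow_succ']
      simp only [mul_assoc]
      rw [← mul_assoc x x, ← mul_assoc x x, hx, one_mul, one_mul]
    have hc : IsConj (x * (x * y) ^ k) (x * (x * y) ^ (k + 2)) :=
      isConj_iff.2 ⟨(x * y)⁻¹, by rw [inv_inv]; exact e⟩
    exact (mul_pow_conj hx hy k).imp (fun h => h.trans hc) fun h => h.trans hc

variable {G : Type*} [Group G] [Finite G] {d : G} {Q : Type*} [Group Q] [Finite Q] {E : Set Q}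
  {π : ↥(Subgroup.centralizer ({d} : Set G)) →* Q} {z : ↥(Subgroup.centralizer ({d} : Set G))}

/-- No relation of at most five members commuting with a base. -/
theorem no_five (H : Hyp d E π z) (Fr : Frame E π z) {a : G} (ha : IsConj d a) {l : List G}
    (hl : ∀ x ∈ l, IsConj d x ∧ Commute x a ∧ x ≠ a) (hn : l.Nodup) (hc : ∀ x ∈ l, ∀ y ∈ l, Commute x y)
    (hp : l.prod = 1 ∨ l.prod = a) (hlen : l.length ≤ 5) : l = [] := by
  obtain ⟨k, hk⟩ := isConj_iff.1 ha
  have hlist : ∀ m : List G, (∀ x ∈ m, IsConj d x ∧ Commute x a ∧ x ≠ a) →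
      ∃ ps : List (Fin 3510), ps.map (Fr.pt k) = m := by
    intro m
    induction m with
    | nil => exact fun _ => ⟨[], rfl⟩
    | cons x m ih =>
      intro hm
      obtain ⟨h1, h2, h3⟩ := hm x List.mem_cons_self
      obtain ⟨ps, hps⟩ := ih fun y hy => hm y (List.mem_cons_of_mem _ hy)
      obtain ⟨p, hp⟩ := Frame.exists_pt H Fr (k := k) h1 (hk ▸ h2) (hk ▸ h3)
      exact ⟨p :: ps, by rw [List.map_cons, hp, hps]⟩
  obtain ⟨ps, rfl⟩ := hlist l hl
  have hd1 : (ps.map Fr.T.A.delta).prod = 1 := by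
    have e : view d k (ps.map Fr.L.Y).prod = (ps.map (Fr.pt k)).prod := by
      rw [map_list_prod, List.map_map]; rfl
    have e' : π (ps.map Fr.L.Y).prod = (ps.map Fr.T.A.delta).prod := by
      rw [map_list_prod, List.map_map]
      exact congrArg List.prod (List.map_congr_left fun p _ => Fr.L.proj p)
    rw [← e']
    rcases hp with h | h
    · rw [← e, ← map_one (view d k)] at h
      rw [view_inj k h, map_one]
    · rw [← e, ← hk, ← view_z H k] at h
      rw [view_inj k h, H.hd.proj_z]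
  have := H.noRel (ps.map Fr.T.A.delta) (hn.of_map.map Fr.T.A.delta_injective)
    (fun x hx => by obtain ⟨p, -, rfl⟩ := List.mem_map.1 hx; exact Frame.delta_mem H Fr p)
    (fun x hx y hy => by
      obtain ⟨p, hp', rfl⟩ := List.mem_map.1 hx
      obtain ⟨q, hq', rfl⟩ := List.mem_map.1 hy
      exact (Frame.pt_commute H Fr (k := k)).1 (hc _ (List.mem_map_of_mem hp') _ (List.mem_map_of_mem hq')))
    (fun y _ => by rw [hd1]; exact Commute.one_left y) (by simpa using hlen)
  rw [List.map_eq_nil_iff] at this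
  rw [this, List.map_nil]

namespace Frame

variable (H : Hyp d E π z) (Fr : Frame E π z)
include H

omit H in
/-- The twenty-three in the centralizer. -/
def m23 (j : ℕ) : ↥(Subgroup.centralizer ({d} : Set G)) := if h : j < 22 then Fr.L.Y (P j h) else z

theorem m23_ev {j : ℕ} (hj : j < 23) : Fr.m23 j = ev11 z Fr.T Fr.L₀ (vec23 Fr.f j) := by
  rw [m23, vec23]
  split_ifs with h
  · exact lift_coord H Fr h
  · exact (ev11_top Fr.T Fr.L₀ H.hd).symm

theorem m23_prod : ∀ {l : List ℕ}, (∀ i ∈ l, i < 23) →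
    ev11 z Fr.T Fr.L₀ (sum23 Fr.f l) = (l.map Fr.m23).prod
  | [], _ => ev11_zero Fr.T Fr.L₀ H.hd
  | i :: l, h => by
    rw [List.map_cons, List.prod_cons, ← m23_prod fun j hj => h j (List.mem_cons_of_mem _ hj),
      m23_ev H Fr (h i List.mem_cons_self), ← ev11_xor Fr.T Fr.L₀ H.hd]
    rfl

theorem m23_inj {i j : ℕ} (hi : i < 23) (hj : j < 23) (h : (Fr.m23 i : G) = (Fr.m23 j : G)) : i = j := by
  have hf : Fr.f ∈ [0, 1024] := by rcases Fr.sign with h | h <;> simp [h]
  have h' := Subtype.ext h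
  rw [m23_ev H Fr hi, m23_ev H Fr hj] at h'
  exact vec23_inj _ hf i hi j hj (ev11_inj Fr.T Fr.L₀ H.hd (vec23_lt _ hf i hi) (vec23_lt _ hf j hj) h')

theorem m23_commute {i j : ℕ} : Commute (Fr.m23 i : G) (Fr.m23 j : G) := by
  refine congrArg Subtype.val (?_ : Commute (Fr.m23 i) (Fr.m23 j)).eq
  unfold m23
  split_ifs
  · exact clique_commute H Fr _ _
  · exact (H.hd.central _).symm
  · exact H.hd.central _
  · exact Commute.refl _

theorem m23_mem (M : Emb d) (j : ℕ) : M.Mem (Fr.m23 j : G) := by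
  unfold m23
  split_ifs
  · exact Emb.mem_lift H Fr _
  · rw [H.z_val]; exact M.mem_d

end Frame

namespace Emb

variable {M : Emb d} (H : Hyp d E π z) (Fr : Frame E π z)
include H Fr

/-- A member outside has product of odd order with every member inside. -/
theorem odd_outside {x y : G} (hx : M.Mem x) (hy : IsConj d y) (hout : ¬ M.Mem y) : Odd (orderOf (x * y)) := by
  rw [← Nat.not_even_iff_odd]
  intro he
  have ord : ∀ {u : G}, IsConj d u → orderOf u = 2 := fun hu =>
    orderOf_eq_prime (by rw [pow_two]; exact (H.conj_sq hu).1) (H.conj_sq hu).2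
  obtain ⟨hu, hux, huy⟩ := Invol.central_involution (ord hx.isConj) (ord hy) he
  set u := (x * y) ^ (orderOf (x * y) / 2) with hudef
  have hx' : IsConj d (x * u) := by
    rcases mul_pow_conj (H.conj_sq hx.isConj).1 (H.conj_sq hy).1 (orderOf (x * y) / 2) with h | h
    · exact hx.isConj.trans h
    · exact hy.trans h
  have hcx : Commute (x * u) x := (Commute.refl x).mul_left hux
  have hm := hx.of_commute H Fr hx' hcx
  have hne : x ≠ x * u := fun e => by
    rw [left_eq_mul] at e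
    rw [e, orderOf_one] at hu
    omega
  have hp : Commute y (x * (x * u)) := by
    rw [← mul_assoc, (H.conj_sq hx.isConj).1, one_mul]; exact huy.symm
  exact hout (mem_of_range H Fr hy (cent_pair H Fr hx hm hcx.symm hne hp))

/-- A fourth member is not one of a pair with the product of four. -/
theorem coincide {p q r s t : G} (hp : M.Mem p) (hq : M.Mem q) (hr : M.Mem r) (hs : M.Mem s) (ht : M.Mem t)
    (hn : [p, r, s, t].Nodup) (hc : ∀ x ∈ [p, q, r, s, t], ∀ y ∈ [p, q, r, s, t], Commute x y) (hne : q ≠ p)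
    (h : q = r * s * t) : False := by
  have sq : ∀ {u : G}, M.Mem u → u * u = 1 := fun hu => (H.conj_sq hu.isConj).1
  have inv : ∀ {u : G}, M.Mem u → u⁻¹ = u := fun hu => inv_eq_of_mul_eq_one_left (sq hu)
  simp only [List.nodup_cons, List.mem_cons, List.not_mem_nil, or_false, not_or, List.nodup_nil, and_true,
    not_false_eq_true] at hn
  obtain ⟨⟨hpr, hps, hpt⟩, ⟨hrs, hrt⟩, hst⟩ := hn
  have hqr : q ≠ r := fun e => hst (by
    rw [e, mul_assoc, left_eq_mul] at h
    rw [eq_inv_of_mul_eq_one_left h, inv ht])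
  have hqs : q ≠ s := fun e => hrt (by
    rw [e, (hc r (by simp) s (by simp)).eq, mul_assoc, left_eq_mul] at h
    rw [eq_inv_of_mul_eq_one_left h, inv ht])
  have hqt : q ≠ t := fun e => hrs (by
    rw [e, right_eq_mul] at h
    rw [eq_inv_of_mul_eq_one_left h, inv hs])
  have := no_five H Fr hp.isConj (l := [q, r, s, t]) (by
      intro x hx
      simp only [List.mem_cons, List.not_mem_nil, or_false] at hx
      rcases hx with rfl | rfl | rfl | rfl
      exacts [⟨hq.isConj, hc _ (by simp) _ (by simp), hne⟩, ⟨hr.isConj, hc _ (by simp) _ (by simp), Ne.symm hpr⟩,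
        ⟨hs.isConj, hc _ (by simp) _ (by simp), Ne.symm hps⟩, ⟨ht.isConj, hc _ (by simp) _ (by simp), Ne.symm hpt⟩])
    (by simp [hqr, hqs, hqt, hrs, hrt, hst])
    (fun x hx y hy => hc x (List.mem_cons_of_mem _ hx) y (List.mem_cons_of_mem _ hy))
    (Or.inl (by
      simp only [List.prod_cons, List.prod_nil, mul_one]
      rw [← mul_assoc r, ← h]; exact sq hq)) (by simp)
  simp at this

/-- The triples: no member outside centralizes the product of three of the twenty-three. -/
theorem triple_outside {a b c u y : G} (ha : M.Mem a) (hb : M.Mem b) (hc : M.Mem c) (hu : M.Mem u)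
    (hn : [a, b, c, u].Nodup) (hcomm : ∀ x ∈ [a, b, c, u], ∀ w ∈ [a, b, c, u], Commute x w)
    (hy : IsConj d y) (hout : ¬ M.Mem y) (hyc : Commute y (a * b * c)) : False := by
  obtain ⟨z₁, hz₁⟩ : ∃ z₁, z₁ = a * b * c := ⟨_, rfl⟩
  have sq : ∀ {x : G}, M.Mem x → x * x = 1 := fun hx => (H.conj_sq hx.isConj).1
  have ord : ∀ {x : G}, IsConj d x → orderOf x = 2 := fun hx =>
    orderOf_eq_prime (by rw [pow_two]; exact (H.conj_sq hx).1) (H.conj_sq hx).2
  have hz : ∀ x ∈ [a, b, c, u], Commute x z₁ := fun x hx => by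
    rw [hz₁]
    exact ((hcomm x hx a (by simp)).mul_right (hcomm x hx b (by simp))).mul_right (hcomm x hx c (by simp))
  have mover : ∀ x ∈ [a, b, c, u], M.Mem x → ∃ h, Commute h z₁ ∧ h * x * h⁻¹ = y := fun x hx hm => by
    obtain ⟨h, hh, e⟩ := Invol.exists_conj_of_odd (ord hm.isConj) (ord hy) (odd_outside H Fr hm hy hout)
    refine ⟨h, Subgroup.mem_centralizer_singleton_iff.1 ((Subgroup.closure_le _).2 ?_ hh), e⟩
    rintro w (rfl | rfl)
    · exact Subgroup.mem_centralizer_singleton_iff.2 (hz _ hx).eq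
    · exact Subgroup.mem_centralizer_singleton_iff.2 (hz₁ ▸ hyc).eq
  obtain ⟨h₁, hh₁, e₁⟩ := mover a (by simp) ha
  obtain ⟨h₂, hh₂, e₂⟩ := mover u (by simp) hu
  obtain ⟨h, hh⟩ : ∃ h, h = h₂⁻¹ * h₁ := ⟨_, rfl⟩
  have hhz : Commute h z₁ := hh ▸ hh₂.inv_left.mul_left hh₁
  have hau : h * a * h⁻¹ = u := by
    rw [hh]
    calc h₂⁻¹ * h₁ * a * (h₂⁻¹ * h₁)⁻¹ = h₂⁻¹ * (h₁ * a * h₁⁻¹) * h₂ := by group
      _ = u := by rw [e₁, ← e₂]; group
  obtain ⟨p, hpdef⟩ : ∃ p, p = h * b * h⁻¹ := ⟨_, rfl⟩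
  obtain ⟨q, hqdef⟩ : ∃ q, q = h * c * h⁻¹ := ⟨_, rfl⟩
  have hbc : b * c = a * z₁ := by rw [hz₁, ← mul_assoc, ← mul_assoc, sq ha, one_mul]
  have hpq : p * q = u * (a * b * c) := by
    rw [hpdef, hqdef, ← hz₁]
    calc h * b * h⁻¹ * (h * c * h⁻¹) = h * (b * c) * h⁻¹ := by group
      _ = (h * a * h⁻¹) * (h * z₁ * h⁻¹) := by rw [hbc]; group
      _ = u * z₁ := by rw [hau, hhz.eq, mul_inv_cancel_right]
  have hpqc : Commute p q := by rw [hpdef, hqdef]; exact (Commute.conj_iff h).2 (hcomm b (by simp) c (by simp))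
  simp only [List.nodup_cons, List.mem_cons, List.not_mem_nil, or_false, not_or, List.nodup_nil, and_true,
    not_false_eq_true] at hn
  obtain ⟨⟨hab, hac, hau'⟩, ⟨hbc', hbu⟩, hcu⟩ := hn
  have hpq' : p ≠ q := by rw [hpdef, hqdef]; exact fun e => hbc' (mul_left_cancel (mul_right_cancel e))
  -- the four commute with both of the new pair
  have four : ∀ x ∈ [a, b, c, u], M.Mem x → Commute x p ∧ Commute x q := fun x hx hm => by
    have hxpq : Commute x (p * q) := by
      rw [hpq, ← hz₁]; exact (hcomm x hx u (by simp)).mul_right (hz x hx)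
    have e : h * (b * c) * h⁻¹ = p * q := by rw [hpdef, hqdef]; group
    have hx' : Commute (h⁻¹ * x * h) (b * c) := by
      refine (Commute.conj_iff h).1 ?_
      rw [e, show h * (h⁻¹ * x * h) * h⁻¹ = x by group]
      exact hxpq
    have hxc : IsConj d (h⁻¹ * x * h) := hm.isConj.trans (isConj_iff.2 ⟨h⁻¹, by group⟩)
    have hxm := mem_of_range H Fr hxc (cent_pair H Fr hb hc (hcomm b (by simp) c (by simp)) hbc' hx')
    obtain ⟨h1, h2⟩ := commute_pair H Fr hb hc (hcomm b (by simp) c (by simp)) hbc' hxm hx'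
    have k1 := (Commute.conj_iff h).2 h1
    have k2 := (Commute.conj_iff h).2 h2
    rw [show h * (h⁻¹ * x * h) * h⁻¹ = x by group] at k1 k2
    exact ⟨hpdef ▸ k1, hqdef ▸ k2⟩
  obtain ⟨hpa, hqa⟩ := four a (by simp) ha
  have hpm : M.Mem p := ha.of_commute H Fr (hb.isConj.trans (isConj_iff.2 ⟨h, hpdef.symm⟩)) hpa.symm
  have hqm : M.Mem q := ha.of_commute H Fr (hc.isConj.trans (isConj_iff.2 ⟨h, hqdef.symm⟩)) hqa.symm
  obtain ⟨hpb, hqb⟩ := four b (by simp) hb
  obtain ⟨hpc, hqc⟩ := four c (by simp) hc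
  obtain ⟨hpu, hqu⟩ := four u (by simp) hu
  have cab := hcomm a (by simp) b (by simp)
  have cac := hcomm a (by simp) c (by simp)
  have cau := hcomm a (by simp) u (by simp)
  have cbc := hcomm b (by simp) c (by simp)
  have cbu := hcomm b (by simp) u (by simp)
  have ccu := hcomm c (by simp) u (by simp)
  -- neither new member is one of the four
  have key : ∀ {p q : G}, M.Mem p → M.Mem q → Commute p q → q ≠ p → p * q = u * (a * b * c) →
      Commute q a → Commute q b → Commute q c → Commute q u →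
      p ≠ a ∧ p ≠ b ∧ p ≠ c ∧ p ≠ u := by
    intro p q hpm hqm hcpq hne e hqa hqb hqc hqu
    have hall : ∀ {r s t : G}, [p, r, s, t].Nodup → M.Mem r → M.Mem s → M.Mem t →
        (∀ x ∈ [p, q, r, s, t], ∀ w ∈ [p, q, r, s, t], Commute x w) → u * (a * b * c) = p * (r * s * t) → False :=
      fun hn hr hs ht hcm e' => coincide H Fr hpm hqm hr hs ht hn hcm hne (mul_left_cancel (e.trans e'))
    refine ⟨?_, ?_, ?_, ?_⟩ <;> rintro rfl
    · refine hall (r := u) (s := b) (t := c)
        (by simp [hau', hab, hac, Ne.symm hbu, Ne.symm hcu, hbc']) hu hb hc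
        (by simp [hcpq, hcpq.symm, cau, cau.symm, cab, cab.symm, cac, cac.symm, hqu, hqu.symm, hqb, hqb.symm, hqc,
          hqc.symm, cbu, cbu.symm, ccu, ccu.symm, cbc, cbc.symm]) ?_
      simp only [← mul_assoc]; rw [cau.symm.eq]
    · refine hall (r := u) (s := a) (t := c)
        (by simp [hbu, Ne.symm hab, hbc', Ne.symm hau', Ne.symm hcu, hac]) hu ha hc
        (by simp [hcpq, hcpq.symm, cbu, cbu.symm, cab, cab.symm, cbc, cbc.symm, hqu, hqu.symm, hqa, hqa.symm, hqc,
          hqc.symm, cau, cau.symm, ccu, ccu.symm, cac, cac.symm]) ?_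
      rw [← mul_assoc u (a * p) c, ← mul_assoc u a p, ← (cbu.mul_right cab.symm).eq]
      simp only [mul_assoc]
    · refine hall (r := u) (s := a) (t := b)
        (by simp [hcu, Ne.symm hac, Ne.symm hbc', Ne.symm hau', Ne.symm hbu, hab]) hu ha hb
        (by simp [hcpq, hcpq.symm, ccu, ccu.symm, cac, cac.symm, cbc, cbc.symm, hqu, hqu.symm, hqa, hqa.symm, hqb,
          hqb.symm, cau, cau.symm, cbu, cbu.symm, cab, cab.symm]) ?_
      rw [← mul_assoc u (a * b), ← ((ccu.mul_right (cac.symm.mul_right cbc.symm))).eq, ← mul_assoc u]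
    · exact hall (r := a) (s := b) (t := c)
        (by simp [Ne.symm hau', Ne.symm hbu, Ne.symm hcu, hab, hac, hbc']) ha hb hc
        (by simp [hcpq, hcpq.symm, cau, cau.symm, cbu, cbu.symm, ccu, ccu.symm, hqa, hqa.symm, hqb, hqb.symm, hqc,
          hqc.symm, cab, cab.symm, cac, cac.symm, cbc, cbc.symm]) rfl
  obtain ⟨na, nb, nc, nu⟩ := key hpm hqm hpqc hpq'.symm hpq hqa.symm hqb.symm hqc.symm hqu.symm
  obtain ⟨ma, mb, mc, mu⟩ :=
    key hqm hpm hpqc.symm hpq' (hpqc.eq ▸ hpq) hpa.symm hpb.symm hpc.symm hpu.symm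
  have := no_five H Fr ha.isConj (l := [p, q, u, b, c]) (by
      intro x hx
      simp only [List.mem_cons, List.not_mem_nil, or_false] at hx
      rcases hx with rfl | rfl | rfl | rfl | rfl
      exacts [⟨hpm.isConj, hpa.symm, na⟩, ⟨hqm.isConj, hqa.symm, ma⟩, ⟨hu.isConj, cau.symm, Ne.symm hau'⟩,
        ⟨hb.isConj, cab.symm, Ne.symm hab⟩, ⟨hc.isConj, cac.symm, Ne.symm hac⟩])
    (by simp [hpq', nu, nb, nc, mu, mb, mc, Ne.symm hbu, Ne.symm hcu, hbc'])
    (by simp [hpqc, hpqc.symm, hpu, hpu.symm, hpb, hpb.symm, hpc, hpc.symm, hqu, hqu.symm, hqb, hqb.symm, hqc,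
      hqc.symm, cbu, cbu.symm, ccu, ccu.symm, cbc, cbc.symm])
    (Or.inr (by
      simp only [List.prod_cons, List.prod_nil, mul_one]
      rw [← mul_assoc p q, hpq, mul_assoc a b c]
      have hw : Commute (a * (b * c)) u := cau.mul_left (cbu.mul_left ccu)
      calc u * (a * (b * c)) * (u * (b * c)) = (u * u) * a * ((b * c) * (b * c)) := by
            rw [mul_assoc u, ← mul_assoc (a * (b * c)) u, hw.eq]; simp only [mul_assoc]
        _ = a := by rw [sq hu, cbc.symm.mul_mul_mul_comm b c, sq hb, sq hc]; simp))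
    (by simp)
  simp at this

/-- There are no members outside. -/
theorem mem_all (M : Emb d) {y : G} (hy : IsConj d y) : M.Mem y := by
  classical
  by_contra hout
  have h0 : 0 < 22 := by norm_num
  obtain ⟨hbm, hdb, hdne⟩ := second_facts (M := M) H Fr
  obtain ⟨b, hb⟩ : ∃ b, b = second Fr := ⟨_, rfl⟩
  rw [← hb] at hbm hdb hdne
  obtain ⟨t, ht⟩ : ∃ t, t = d * b := ⟨_, rfl⟩
  have ht2 : t * t = 1 := by rw [ht, hdb.symm.mul_mul_mul_comm, H.d_sq, (H.conj_sq hbm.isConj).1, one_mul]
  have ht1 : t ≠ 1 := fun e => hdne (by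
    rw [ht] at e
    rw [eq_inv_of_mul_eq_one_left e, inv_eq_of_mul_eq_one_left (H.conj_sq hbm.isConj).1])
  have hto : orderOf t = 2 := orderOf_eq_prime (by rw [pow_two, ht2]) ht1
  have hyo : orderOf y = 2 := orderOf_eq_prime (by rw [pow_two]; exact (H.conj_sq hy).1) (H.conj_sq hy).2
  rcases Nat.even_or_odd (orderOf (t * y)) with he | he
  swap
  · -- the product of a pair is not a member
    have htD : IsConj d t := hy.trans (Invol.isConj_of_odd hto hyo he).symm
    have htd : Commute t d := ht ▸ (Commute.refl d).mul_left hdb.symm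
    have htm : M.Mem t := M.mem_d.of_commute H Fr htD htd
    obtain ⟨q, hq⟩ := Frame.exists_pt H Fr (k := 1) htD (by simpa using htd)
      (fun e => (H.conj_sq hbm.isConj).2 (by
        rw [ht] at e; simpa using e))
    have e : Fr.L.Y q = z * Fr.L.Y (P 0 h0) := by
      refine view_inj (1 : G) ?_
      rw [map_mul, view_z H]
      show Fr.pt 1 q = 1 * d * 1⁻¹ * Fr.pt 1 (P 0 h0)
      rw [hq, ht, hb, second, Frame.pt, view_apply]; simp
    have hd' := congrArg π e
    rw [map_mul, H.hd.proj_z, one_mul, Fr.L.proj, Fr.L.proj] at hd'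
    rw [Fr.T.A.delta_injective hd', right_eq_mul] at e
    exact H.hd.ne e
  obtain ⟨huo, hut, huy⟩ := Invol.central_involution hto hyo he
  set u := (t * y) ^ (orderOf (t * y) / 2) with hudef
  have hu2 : u * u = 1 := by rw [← pow_two, ← huo, pow_orderOf_eq_one]
  have hur : u ∈ M.F.range := cent_pair H Fr M.mem_d hbm hdb hdne (ht ▸ hut)
  obtain ⟨x, hxm, hxu⟩ := exists_mem_commute H Fr hur hu2
  obtain ⟨k, hk⟩ := isConj_iff.1 hxm.isConj
  have hkr : k ∈ M.F.range := hxm.range_of_conj hk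
  obtain ⟨c, hc⟩ := exists_view (d := d) (k := k) (x := u) (by rw [hk]; exact hxu)
  have hc2 : c * c = 1 := view_inj k (by rw [map_mul, map_one, hc, hu2])
  obtain ⟨g, v, hv, hgv⟩ := Fr.invol c hc2
  obtain ⟨m, hm⟩ : ∃ m, m = (g : G) * k⁻¹ := ⟨_, rfl⟩
  have hmr : m ∈ M.F.range := hm ▸ mul_mem (M.cent g.2) (inv_mem hkr)
  have hev : m * u * m⁻¹ = ((ev11 z Fr.T Fr.L₀ v : ↥(Subgroup.centralizer ({d} : Set G))) : G) := by
    rw [← hgv, ← hc, hm, view_apply]; push_cast; group
  have hy' : IsConj d (m * y * m⁻¹) := hy.trans (isConj_iff.2 ⟨m, rfl⟩)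
  have hout' : ¬ M.Mem (m * y * m⁻¹) := fun h => hout (by
    have := h.conj (inv_mem hmr)
    rwa [show m⁻¹ * (m * y * m⁻¹) * m⁻¹⁻¹ = y by group] at this)
  have hcy : Commute (m * y * m⁻¹) (m * u * m⁻¹) := (Commute.conj_iff m).2 huy.symm
  rw [hev] at hcy
  have hv0 : v ≠ 0 := fun e => by
    rw [e, ev11_zero Fr.T Fr.L₀ H.hd] at hev
    have : u = 1 := conj_eq_one_iff.1 hev
    rw [this, orderOf_one] at huo
    omega
  obtain ⟨l, hl, hlv⟩ := exists_subset23 (f := Fr.f) Fr.sign hv hv0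
  obtain ⟨hl23, hln, hl1, hl3⟩ := subsets23_spec l hl
  rw [← hlv, Frame.m23_prod H Fr hl23] at hcy
  have mem := Frame.m23_mem H Fr M
  have com : ∀ {i j : ℕ}, Commute (Fr.m23 i : G) (Fr.m23 j : G) := Frame.m23_commute H Fr
  have ne : ∀ {i j : ℕ}, i < 23 → j < 23 → i ≠ j → (Fr.m23 i : G) ≠ (Fr.m23 j : G) :=
    fun hi hj hne e => hne (Frame.m23_inj H Fr hi hj e)
  match l, hl23, hln, hl1, hl3, hcy with
  | [i], _, _, _, _, hcy =>
    simp only [List.map_cons, List.map_nil, List.prod_cons, List.prod_nil, mul_one] at hcy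
    exact hout' ((mem i).of_commute H Fr hy' hcy)
  | [i, j], hl23, hln, _, _, hcy =>
    simp only [List.map_cons, List.map_nil, List.prod_cons, List.prod_nil, mul_one, Subgroup.coe_mul] at hcy
    exact hout' (mem_of_range H Fr hy' (cent_pair H Fr (mem i) (mem j) com
      (ne (hl23 i (by simp)) (hl23 j (by simp)) (by simpa using hln)) hcy))
  | [i, j, k'], hl23, hln, _, _, hcy =>
    simp only [List.map_cons, List.map_nil, List.prod_cons, List.prod_nil, mul_one, Subgroup.coe_mul] at hcy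
    rw [← mul_assoc] at hcy
    obtain ⟨hi, hj, hk'⟩ : i < 23 ∧ j < 23 ∧ k' < 23 :=
      ⟨hl23 i (by simp), hl23 j (by simp), hl23 k' (by simp)⟩
    obtain ⟨n, hn, hni, hnj, hnk⟩ : ∃ n, n < 23 ∧ i ≠ n ∧ j ≠ n ∧ k' ≠ n := by
      by_cases h0 : i ≠ 0 ∧ j ≠ 0 ∧ k' ≠ 0
      · exact ⟨0, by omega, h0⟩
      by_cases h1 : i ≠ 1 ∧ j ≠ 1 ∧ k' ≠ 1
      · exact ⟨1, by omega, h1⟩
      by_cases h2 : i ≠ 2 ∧ j ≠ 2 ∧ k' ≠ 2
      · exact ⟨2, by omega, h2⟩
      exact ⟨3, by omega, by omega⟩
    simp only [List.nodup_cons, List.mem_cons, List.not_mem_nil, or_false, not_or, List.nodup_nil, and_true,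
      not_false_eq_true] at hln
    obtain ⟨⟨hij, hik⟩, hjk⟩ := hln
    refine triple_outside H Fr (mem i) (mem j) (mem k') (mem n) ?_ (by simp [com]) hy' hout' hcy
    simp [ne hi hj hij, ne hi hk' hik, ne hi hn hni, ne hj hk' hjk, ne hj hn hnj, ne hk' hn hnk]
  | [], _, _, h, _, _ => simp at h
  | _ :: _ :: _ :: _ :: _, _, _, _, h, _ => simp only [List.length_cons] at h; omega

/-- The embedding is onto. -/
theorem surjective (M : Emb d) : Function.Surjective M.F := fun g =>
  (mem_all H Fr M (isConj_iff.2 ⟨g, rfl⟩)).range_of_conj rfl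

end Emb

end Cfsg.Lib.Fischer.Cent23
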